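import Cfsg.Agent.Lib.KnownB.PSUAut.Rows

/-!
`Aut PSU_n(q)`: uniqueness of the decomposition and the outer automorphism group.
-/

set_option autoImplicit false

namespace CfsgLib.KnownB.PSUAut

open Matrix CfsgLib.Classical CfsgLib.Classical.Unitary

variable {n : ℕ} {F : Type*} [Field F] {q p : ℕ} {σ : F →+* F}

theorem scalarGL_mem_GU (u : normOne F q) :
    Matrix.GeneralLinearGroup.scalar (Fin n) (u : Fˣ) ∈ Cfsg.GU n F q := by
  intro x y
  have hu : ((u : Fˣ) : F) ^ (q + 1) = 1 := congrArg Units.val (MonoidHom.mem_ker.1 u.2)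
  show Cfsg.hermForm n F q ((Matrix.scalar (Fin n) ((u : Fˣ) : F)) *ᵥ x)
    ((Matrix.scalar (Fin n) ((u : Fˣ) : F)) *ᵥ y) = _
  simp only [Cfsg.hermForm, Matrix.scalar_apply, Matrix.mulVec_diagonal]
  refine Finset.sum_congr rfl fun i _ => ?_
  rw [mul_pow]
  linear_combination (x i * y i ^ q) * hu

/-- The scalar matrices in `GU`. -/
def scalarGU (n : ℕ) (F : Type*) [Field F] (q : ℕ) : normOne F q →* Cfsg.GU n F q :=
  ((Matrix.GeneralLinearGroup.scalar (Fin n)).comp (normOne F q).subtype).codRestrict _ scalarGL_mem_GU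

/-- `SU` inside `GU`. -/
def toGU : Cfsg.SU n F q →* Cfsg.GU n F q :=
  (Matrix.SpecialLinearGroup.toGL.comp (Cfsg.SU n F q).subtype).codRestrict _ fun s => s.2

theorem conj_π (s : Cfsg.SU n F q) :
    (MulAut.conj (π n F q s) : MulAut (Cfsg.PSU n F q)) = δ (toGU s) := by
  refine MulEquiv.ext fun x => ?_
  obtain ⟨t, rfl⟩ := π_surjective x
  show π n F q s * π n F q t * (π n F q s)⁻¹ = π n F q (conjSU (toGU s) t)
  rw [← map_inv, ← map_mul, ← map_mul]
  refine congrArg _ (Subtype.ext (Subtype.ext ?_))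
  show s.1.1 * t.1.1 * (s⁻¹).1.1 = s.1.1 * t.1.1 * ((Matrix.SpecialLinearGroup.toGL s.1)⁻¹).1
  rw [← map_inv Matrix.SpecialLinearGroup.toGL]
  rfl

theorem inn_eq : Cfsg.Inn (Cfsg.PSU n F q) = ((δ : Cfsg.GU n F q →* _).comp toGU).range := by
  ext a
  constructor
  · rintro ⟨x, rfl⟩
    obtain ⟨s, rfl⟩ := π_surjective x
    exact ⟨s, (conj_π s).symm⟩
  · rintro ⟨s, rfl⟩
    exact ⟨π n F q s, conj_π s⟩

theorem scalar_conj (a : Fˣ) (s : Matrix (Fin n) (Fin n) F) :
    (Matrix.GeneralLinearGroup.scalar (Fin n) a).1 * s * ((Matrix.GeneralLinearGroup.scalar (Fin n) a)⁻¹).1 = s := by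
  have h : (Matrix.GeneralLinearGroup.scalar (Fin n) a).1 * s =
      s * (Matrix.GeneralLinearGroup.scalar (Fin n) a).1 :=
    (Matrix.scalar_commute (a : F) (fun r' => Commute.all _ r') s).eq
  rw [h, mul_assoc, Units.mul_inv, mul_one]

theorem δ_scalar (a : Fˣ) (g : Cfsg.GU n F q) (hg : g.1 = Matrix.GeneralLinearGroup.scalar (Fin n) a) :
    (δ g : MulAut (Cfsg.PSU n F q)) = 1 := by
  refine MulEquiv.ext fun x => ?_
  obtain ⟨s, rfl⟩ := π_surjective x
  refine congrArg (π n F q) (Subtype.ext (Subtype.ext ?_) : conjSU g s = s)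
  show g.1.1 * s.1.1 * (g.1⁻¹).1 = s.1.1
  rw [hg, scalar_conj]

variable [Finite F]

/-- A semilinear map inducing the identity is scalar with trivial field part. -/
theorem Setting.δ_fld_eq_one (S : Setting F σ p q n) (hn : 3 ≤ n) {g : Cfsg.GU n F q}
    {τ : F ≃+* F} (hone : (δ g * fld τ : MulAut (Cfsg.PSU n F q)) = 1) :
    τ = 1 ∧ ∃ u : normOne F q, g = scalarGU n F q u := by
  obtain ⟨e, f, H⟩ := S.exists_pair hn
  have key : ∀ (v : Fin n → F) (c : F) (hv : uh σ v v = 0) (hc : c + σ c = 0), c ≠ 0 → v ≠ 0 →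
      ∃ r : F, semi g τ v = r • v ∧ r * σ r * τ c = c := by
    intro v c hv hc hc0 hv0
    have h1 := semi_utv S.frob g τ v c hv hc
    rw [hone, MulAut.one_apply] at h1
    have h2 := S.pel_ext (S.pEl_utv _ _ _ _) (S.pEl_utv _ _ _ _) h1
    obtain ⟨r, hr⟩ := utv_eq_point S.frob _ hv _ hc
      (fun h0 => hv0 (by
        obtain ⟨w, hw⟩ := exists_uh_eq_one S.frob hv0
        have h3 := uh_semi S.frob g τ w v
        rw [h0, uh_zero_right, hw, map_one] at h3
        exact absurd h3 zero_ne_one))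
      (fun h0 => hc0 (τ.injective (by rw [h0, map_zero]))) h2.symm
    refine ⟨r, hr, ?_⟩
    rw [utv_congr S.frob hr rfl, utv_smul S.frob v r (τ c) _ hv _
      (norm_skew S.frob r (skew_map S.frob τ hc))] at h2
    exact (utv_eq_scalar S.frob hv hc _ hv0 h2).symm
  obtain ⟨k, hk0, hk⟩ := exists_skew S.frob
  obtain ⟨l, hl, hlk⟩ := key e k H.ee hk hk0 H.ne_zero
  obtain ⟨m, hm, -⟩ := key f k H.ff hk hk0 H.symm.ne_zero
  have hlm : l * σ m = 1 := by
    have h1 := uh_semi S.frob g τ e f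
    rwa [hl, hm, uh_smul_left, uh_smul_right, H.ef, map_one, mul_one] at h1
  have hl0 : l ≠ 0 := left_ne_zero_of_mul_eq_one hlm
  have hm0 : σ m ≠ 0 := right_ne_zero_of_mul_eq_one hlm
  have hW : ∀ x (c : F), inW σ e f x → c + σ c + uh σ x x = 0 →
      semi g τ x = m • x ∧ τ c * l = m * c := by
    intro x c hx hc
    have hp : uh σ (f + x + c • e) (f + x + c • e) = 0 := by
      simp only [uh_add_left, uh_add_right, uh_smul_left, uh_smul_right, H.ee, H.ef, H.fe, H.ff,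
        hx.1, hx.2, S.frob.swap_zero hx.1, S.frob.swap_zero hx.2]
      linear_combination hc
    have hp0 : f + x + c • e ≠ 0 := fun h0 => by
      have h1 := congrArg (fun z => uh σ z e) h0
      simp [uh_add_left, uh_smul_left, H.ee, H.fe, hx.1, uh_zero_left] at h1
    obtain ⟨r, hr, -⟩ := key _ k hp hk hk0 hp0
    have hs : semi g τ (f + x + c • e) = m • f + semi g τ x + (τ c * l) • e := by
      rw [← smul_smul, ← hl, ← hm]
      simp only [semi]
      rw [show τ ∘ (f + x + c • e) = τ ∘ f + τ ∘ x + τ c • (τ ∘ e) from funext fun i => by simp,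
        mulVec_add, mulVec_add, mulVec_smul]
    have hxW : inW σ e f (semi g τ x) := by
      have h1 := uh_semi S.frob g τ x e
      have h2 := uh_semi S.frob g τ x f
      rw [hl, uh_smul_right, hx.1, map_zero] at h1
      rw [hm, uh_smul_right, hx.2, map_zero] at h2
      exact ⟨(mul_eq_zero.1 h1).resolve_left ((map_ne_zero σ).2 hl0),
        (mul_eq_zero.1 h2).resolve_left hm0⟩
    rw [hs] at hr
    have h1 := congrArg (fun z => uh σ z e) hr
    have h2 := congrArg (fun z => uh σ z f) hr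
    simp only [uh_add_left, uh_smul_left, H.ee, H.ef, H.fe, H.ff, hx.1, hx.2, hxW.1, hxW.2] at h1 h2
    have hrm : m = r := by linear_combination h1
    subst hrm
    refine ⟨?_, by linear_combination h2⟩
    rw [show τ c * l = m * c by linear_combination h2] at hr
    calc semi g τ x = (m • f + semi g τ x + (m * c) • e) - m • f - (m * c) • e := by abel
      _ = m • x := by rw [hr]; module
  have hlk' : τ k * l = m * k := (hW 0 k inW.zero (by rwa [uh_zero_left, add_zero])).2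
  obtain ⟨z, hz0, hze, hzf⟩ := exists_perp_two S.frob hn e f
  have hz : inW σ e f z := ⟨hze, hzf⟩
  have hτ : τ = 1 := RingEquiv.ext fun a => by
    obtain ⟨c, hc⟩ := exists_uel_param S.frob (a • z)
    obtain ⟨c', hc'⟩ := exists_uel_param S.frob z
    have h1 := (hW _ c (hz.smul a) hc).1
    have h2 : semi g τ (a • z) = τ a • semi g τ z := by
      simp only [semi]
      rw [show τ ∘ (a • z) = τ a • (τ ∘ z) from funext fun i => by simp, mulVec_smul]
    rw [h2, (hW z c' hz hc').1, smul_smul, smul_smul] at h1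
    have h3 : ((τ a - a) * m) • z = 0 := by
      rw [sub_mul, sub_smul, h1, mul_comm m a, sub_self]
    exact sub_eq_zero.1 ((mul_eq_zero.1 ((smul_eq_zero.1 h3).resolve_right hz0)).resolve_right
      fun h0 => hm0 (by rw [h0, map_zero]))
  subst hτ
  have hlm' : l = m := mul_left_cancel₀ hk0 (by
    have h5 : k * l = m * k := hlk'
    linear_combination h5)
  subst hlm'
  refine ⟨rfl, ?_⟩
  have hu : l ^ (q + 1) = 1 := by rw [pow_succ', ← S.frob.pow, hlm]
  refine ⟨⟨Units.mk0 l hl0, MonoidHom.mem_ker.2 (Units.ext hu)⟩, Subtype.ext (Units.ext ?_)⟩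
  refine Matrix.ext_iff_mulVec.2 fun x => ?_
  obtain ⟨w, hw, hx⟩ := H.decomp x
  obtain ⟨c, hc⟩ := exists_uel_param S.frob w
  have he' : g.1.1 *ᵥ e = l • e := hl
  have hf' : g.1.1 *ᵥ f = l • f := hm
  have hw' : g.1.1 *ᵥ w = l • w := (hW w c hw hc).1
  show g.1.1 *ᵥ x = Matrix.scalar (Fin n) l *ᵥ x
  rw [Matrix.scalar_apply, ← Matrix.smul_one_eq_diagonal, smul_mulVec, one_mulVec]
  conv_lhs => rw [hx, mulVec_add, mulVec_add, mulVec_smul, mulVec_smul, he', hf', hw']
  conv_rhs => rw [hx]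
  module

theorem Setting.δ_eq_one_iff (S : Setting F σ p q n) (hn : 3 ≤ n) (g : Cfsg.GU n F q) :
    (δ g : MulAut (Cfsg.PSU n F q)) = 1 ↔ ∃ u : normOne F q, g = scalarGU n F q u := by
  constructor
  · intro h
    exact (S.δ_fld_eq_one hn (g := g) (τ := 1) (by rw [map_one, mul_one]; exact h)).2
  · rintro ⟨u, rfl⟩
    exact δ_scalar (u : Fˣ) _ rfl

theorem Setting.range_δ_normal (S : Setting F σ p q n) (hn : 3 ≤ n) (h32 : n = 3 → 3 ≤ q) :
    ((δ : Cfsg.GU n F q →* MulAut (Cfsg.PSU n F q)).range).Normal := by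
  refine ⟨fun a ha b => ?_⟩
  obtain ⟨h, rfl⟩ := ha
  obtain ⟨g, τ, rfl⟩ := S.decomp hn h32 b
  refine ⟨g * ⟨_, map_mem_GU τ h⟩ * g⁻¹, ?_⟩
  calc _ = δ g * (δ ⟨_, map_mem_GU τ h⟩ * fld τ) * (fld τ)⁻¹ * (δ g)⁻¹ := by
        rw [map_mul δ, map_mul δ, map_inv δ]; group
    _ = δ g * (fld τ * δ h) * (fld τ)⁻¹ * (δ g)⁻¹ := by rw [fld_δ]
    _ = δ g * fld τ * δ h * (δ g * fld τ)⁻¹ := by group

theorem Setting.inndiag_eq (S : Setting F σ p q n) :
    Cfsg.inndiagPSU n F q = (δ : Cfsg.GU n F q →* MulAut (Cfsg.PSU n F q)).range := by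
  refine le_antisymm ((Subgroup.closure_le _).2 fun β hβ => ?_) fun β hβ => ?_
  · obtain ⟨g, hg⟩ := (innerDiag_iff β).1 hβ
    exact ⟨g, hg.symm⟩
  · obtain ⟨g, rfl⟩ := hβ
    exact Subgroup.subset_closure ((innerDiag_iff _).2 ⟨g, rfl⟩)

theorem Setting.fld_mem_range (S : Setting F σ p q n) (hn : 3 ≤ n) {τ : F ≃+* F}
    (h : (fld τ : MulAut (Cfsg.PSU n F q)) ∈ (δ : Cfsg.GU n F q →* _).range) : τ = 1 := by
  obtain ⟨g, hg⟩ := h
  exact (S.δ_fld_eq_one hn (g := g⁻¹) (by rw [map_inv, hg, inv_mul_cancel])).1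

/-- The determinant on `GU` with values in the norm one units. -/
noncomputable def detN (hK : Nat.card F = q ^ 2) (hn : 1 ≤ n) : Cfsg.GU n F q →* normOne F q :=
  (guDet n F q).codRestrict _ fun g => (guDet_range hK hn).le ⟨g, rfl⟩

theorem detN_scalar (hK : Nat.card F = q ^ 2) (hn : 1 ≤ n) (u : normOne F q) :
    detN hK hn (scalarGU n F q u) = u ^ n := by
  refine Subtype.ext (Units.ext ?_)
  show (Matrix.scalar (Fin n) ((u : Fˣ) : F)).det = _
  simp [Matrix.det_diagonal]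

theorem detN_toGU (hK : Nat.card F = q ^ 2) (hn : 1 ≤ n) (s : Cfsg.SU n F q) :
    detN hK hn (toGU s) = 1 :=
  Subtype.ext (Units.ext s.1.2)

/-- An inner-diagonal automorphism is inner iff the determinant is an `n`-th power. -/
theorem Setting.δ_mem_inn_iff (S : Setting F σ p q n) (hn : 3 ≤ n) (g : Cfsg.GU n F q) :
    (δ g : MulAut (Cfsg.PSU n F q)) ∈ Cfsg.Inn (Cfsg.PSU n F q) ↔
      detN S.card (by omega : 1 ≤ n) g ∈ (powMonoidHom n : normOne F q →* normOne F q).range := by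
  rw [inn_eq]
  constructor
  · rintro ⟨s, hs⟩
    rw [MonoidHom.comp_apply] at hs
    obtain ⟨u, hu⟩ := (S.δ_eq_one_iff hn ((toGU s)⁻¹ * g)).1 (by
      rw [map_mul, map_inv, hs, inv_mul_cancel])
    refine ⟨u, ?_⟩
    rw [inv_mul_eq_iff_eq_mul.1 hu, map_mul, detN_toGU, one_mul, detN_scalar]
    rfl
  · rintro ⟨u, hu⟩
    set g' := (scalarGU n F q u)⁻¹ * g with hg'
    have hd : detN S.card (by omega : 1 ≤ n) g' = 1 := by
      rw [hg', map_mul, map_inv, detN_scalar, ← hu, powMonoidHom_apply, inv_mul_cancel]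
    refine ⟨⟨⟨g'.1.1, congrArg (fun x : normOne F q => ((x : Fˣ) : F)) hd⟩, g'.2⟩, ?_⟩
    rw [MonoidHom.comp_apply, show toGU (⟨⟨g'.1.1,
      congrArg (fun x : normOne F q => ((x : Fˣ) : F)) hd⟩, g'.2⟩ : Cfsg.SU n F q) = g' from
        Subtype.ext (Units.ext rfl), hg', map_mul, map_inv, δ_scalar (u : Fˣ) _ rfl, inv_one, one_mul]

/-- The structure of `Out PSU_n(q)`. -/
theorem Setting.out_structure (S : Setting F σ p q n) (hn : 3 ≤ n) (h32 : n = 3 → 3 ≤ q) :
    ∃ φ : Cfsg.Out (Cfsg.PSU n F q) →* (F ≃+* F), Function.Surjective φ ∧ IsCyclic φ.ker ∧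
      Nat.card φ.ker = Nat.gcd n (q + 1) := by
  haveI := S.range_δ_normal hn h32
  obtain ⟨pr, hπ, hk⟩ := PSLAut.exists_proj (δ : Cfsg.GU n F q →* MulAut (Cfsg.PSU n F q)).range fld
    (fun a => by
      obtain ⟨g, τ, h⟩ := S.decomp hn h32 a
      exact ⟨δ g, ⟨g, rfl⟩, τ, h⟩)
    fun τ hτ => S.fld_mem_range hn hτ
  have hle : Cfsg.Inn (Cfsg.PSU n F q) ≤ pr.ker := by
    rw [hk, inn_eq]
    rintro _ ⟨s, rfl⟩
    exact ⟨_, rfl⟩
  let φ := QuotientGroup.lift (Cfsg.Inn (Cfsg.PSU n F q)) pr hle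
  refine ⟨φ, fun e => ?_, ?_⟩
  · obtain ⟨a, rfl⟩ := hπ e
    exact ⟨QuotientGroup.mk a, rfl⟩
  let χ : Cfsg.GU n F q →* Cfsg.Out (Cfsg.PSU n F q) := (QuotientGroup.mk' _).comp δ
  have hχ : φ.ker = χ.range := by
    ext a
    induction a using QuotientGroup.induction_on with
    | H a =>
      constructor
      · intro ha
        have : a ∈ pr.ker := ha
        rw [hk] at this
        obtain ⟨g, rfl⟩ := this
        exact ⟨g, rfl⟩
      · rintro ⟨g, hg⟩
        rw [← hg]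
        exact (hk.symm ▸ ⟨g, rfl⟩ : δ g ∈ pr.ker)
  let R := (powMonoidHom n : normOne F q →* normOne F q).range
  let ψ : Cfsg.GU n F q →* normOne F q ⧸ R :=
    (QuotientGroup.mk' R).comp (detN S.card (by omega : 1 ≤ n))
  have hψ : Function.Surjective ψ := (QuotientGroup.mk'_surjective R).comp fun u => by
    obtain ⟨g, hg⟩ := (guDet_range S.card (by omega : 1 ≤ n)).ge u.2
    exact ⟨g, Subtype.ext hg⟩
  have hker : χ.ker = ψ.ker := by
    ext g
    simp only [MonoidHom.mem_ker, χ, ψ, MonoidHom.comp_apply, QuotientGroup.mk'_apply,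
      QuotientGroup.eq_one_iff]
    exact S.δ_mem_inn_iff hn g
  let e : (normOne F q ⧸ R) ≃* φ.ker :=
    (QuotientGroup.quotientKerEquivOfSurjective ψ hψ).symm.trans
      ((QuotientGroup.quotientMulEquivOfEq hker.symm).trans
        ((QuotientGroup.quotientKerEquivRange χ).trans (MulEquiv.subgroupCongr hχ.symm)))
  haveI : IsCyclic (normOne F q ⧸ R) := isCyclic_of_surjective _ (QuotientGroup.mk'_surjective R)
  refine ⟨isCyclic_of_surjective e.toMonoidHom e.surjective, ?_⟩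
  rw [← Nat.card_congr e.toEquiv, ← Subgroup.index_eq_card, IsCyclic.index_powMonoidHom_range,
    card_normOne S.card, Nat.gcd_comm]

end CfsgLib.KnownB.PSUAut
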