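import Cfsg.Agent.Lib.KnownB.PSUAut.Decomp

/-!
`Aut PSU_n(q)` in the vocabulary of the statements.
-/

set_option autoImplicit false

namespace CfsgLib.KnownB.PSUAut

open Matrix CfsgLib.Classical CfsgLib.Classical.Unitary

theorem exists_setting {F : Type*} [Field F] [Fintype F] {p f q n : ℕ} [Fact p.Prime]
    (hq : q = p ^ f) (hf : 1 ≤ f) (hF : Fintype.card F = q ^ 2) (hn : 3 ≤ n) :
    ∃ σ : F →+* F, Setting F σ p q n := by
  have hF' : Nat.card F = q ^ 2 := by rw [Nat.card_eq_fintype_card, hF]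
  obtain ⟨σ, hσ⟩ := exists_uFrob hF'
  exact ⟨σ, hF', hσ,
    PSLAut.charP_of_card (f := 2 * f) (by omega) (by rw [hF, hq, ← pow_mul, mul_comm]), Fact.out,
    by omega⟩

theorem three_le_of_ne {F : Type*} [Field F] [Finite F] {σ : F →+* F} {p q n : ℕ}
    (S : Setting F σ p q n) (hs : ¬ (n = 3 ∧ q = 2)) : n = 3 → 3 ≤ q := fun h => by
  have h2 := two_le_q S.card
  have : q ≠ 2 := fun h' => hs ⟨h, h'⟩
  omega

theorem gammaPSU_eq_top {F : Type*} [Field F] [Finite F] {σ : F →+* F} {p q n : ℕ}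
    (S : Setting F σ p q n) (hn : 3 ≤ n) (h32 : n = 3 → 3 ≤ q) : Cfsg.gammaPSU n F q = ⊤ := by
  refine top_le_iff.1 fun β _ => ?_
  obtain ⟨g, τ, hβ⟩ := S.decomp hn h32 β
  exact Subgroup.subset_closure ⟨g.1, τ, g.2, (induced_iff g τ β).2 hβ⟩

end CfsgLib.KnownB.PSUAut
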