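import Cfsg.Agent.Lib.KnownB.PSUAut.Out
import Cfsg.Agent.Lib.KnownB.PSLAut.FieldAut

/-!
Field automorphisms of prime order of `PSU_n(q)`: cosets, centralisers, class splitting.
-/

set_option autoImplicit false

namespace CfsgLib.KnownB.PSUAut

open Matrix CfsgLib.Classical CfsgLib.Classical.Unitary CfsgLib.KnownB.Descent

/-- Splitting of a class under a normal subgroup, for the image of a homomorphism. -/
theorem splitClassCount_range {G X : Type*} [Group G] [Group X] (φ : G →* X) (K : Subgroup X)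
    [K.Normal] (hK : K ≤ φ.range) (x₀ : X) :
    Cfsg.splitClassCount φ.range K x₀ =
      (K.comap φ ⊔ (Subgroup.centralizer {x₀}).comap φ).index := by
  set J := K.comap φ ⊔ (Subgroup.centralizer {x₀}).comap φ with hJ
  let r : {y : X // Cfsg.IsConjUnder φ.range x₀ y} → {y : X // Cfsg.IsConjUnder φ.range x₀ y} → Prop :=
    fun y z => Cfsg.IsConjUnder K y.1 z.1
  have hr : Equivalence r := by
    refine ⟨fun y => ⟨1, one_mem _, by simp⟩, ?_, ?_⟩
    · rintro y z ⟨a, ha, h⟩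
      exact ⟨a⁻¹, inv_mem ha, by rw [h]; group⟩
    · rintro y z w ⟨a, ha, h⟩ ⟨b, hb, h'⟩
      exact ⟨b * a, mul_mem hb ha, by rw [h', h]; group⟩
  let conjy : G → {y : X // Cfsg.IsConjUnder φ.range x₀ y} :=
    fun g => ⟨φ g * x₀ * (φ g)⁻¹, φ g, ⟨g, rfl⟩, rfl⟩
  have hrel : ∀ a b, r (conjy a) (conjy b) ↔ a⁻¹ * b ∈ J := by
    intro a b
    rw [hJ, Subgroup.mem_sup_of_normal_left]
    constructor
    · rintro ⟨s, hs, h⟩
      obtain ⟨t, rfl⟩ := hK hs
      change φ b * x₀ * (φ b)⁻¹ = φ t * (φ a * x₀ * (φ a)⁻¹) * (φ t)⁻¹ at h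
      refine ⟨a⁻¹ * t * a, ?_, a⁻¹ * t⁻¹ * b, ?_, by group⟩
      · rw [Subgroup.mem_comap, map_mul, map_mul, map_inv]
        simpa using ‹K.Normal›.conj_mem _ hs (φ a)⁻¹
      · rw [Subgroup.mem_comap, Subgroup.mem_centralizer_singleton_iff, map_mul, map_mul,
          map_inv, map_inv]
        calc (φ a)⁻¹ * (φ t)⁻¹ * φ b * x₀
            = (φ a)⁻¹ * (φ t)⁻¹ * (φ b * x₀ * (φ b)⁻¹) * φ b := by group
          _ = x₀ * ((φ a)⁻¹ * (φ t)⁻¹ * φ b) := by rw [h]; group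
    · rintro ⟨k, hk, l, hl, h⟩
      refine ⟨φ a * φ k * (φ a)⁻¹, ‹K.Normal›.conj_mem _ hk (φ a), ?_⟩
      have hl' : φ l * x₀ = x₀ * φ l := Subgroup.mem_centralizer_singleton_iff.1 hl
      obtain rfl : b = a * k * l := by rw [mul_assoc, h]; group
      show φ (a * k * l) * x₀ * (φ (a * k * l))⁻¹ = _
      simp only [map_mul, conjy]
      calc φ a * φ k * φ l * x₀ * (φ a * φ k * φ l)⁻¹
          = φ a * φ k * (φ l * x₀) * (φ a * φ k * φ l)⁻¹ := by group
        _ = φ a * φ k * (x₀ * φ l) * (φ a * φ k * φ l)⁻¹ := by rw [hl']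
        _ = _ := by group
  let ψ : G ⧸ J → Quot r := Quotient.lift (fun g => Quot.mk r (conjy g))
    fun a b h => Quot.sound ((hrel a b).2 (QuotientGroup.leftRel_apply.1 h))
  refine (Nat.card_congr (Equiv.ofBijective ψ ⟨?_, ?_⟩)).symm
  · intro a b h
    induction a using QuotientGroup.induction_on with
    | H a =>
      induction b using QuotientGroup.induction_on with
      | H b => exact QuotientGroup.eq.2 ((hrel a b).1 (hr.eqvGen_iff.1 (Quot.eqvGen_exact h)))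
  · intro q
    induction q using Quot.inductionOn with
    | h y =>
      obtain ⟨y, d, ⟨g, rfl⟩, rfl⟩ := y
      exact ⟨QuotientGroup.mk g, rfl⟩

variable {n : ℕ} {F : Type*} [Field F] {q p : ℕ} {σ : F →+* F}

/-- A matrix is unitary iff its conjugate transpose inverts it. -/
theorem mem_GU_iff_mat (h : UFrob σ q) (hq : q ≠ 0) {g : GL (Fin n) F} :
    g ∈ Cfsg.GU n F q ↔ (g.1.map σ)ᵀ * g.1 = 1 := by
  have key : ∀ i j, Cfsg.hermForm n F q (g.1.col i) (g.1.col j) = ((g.1.map σ)ᵀ * g.1) j i := by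
    intro i j
    rw [Cfsg.hermForm]
    simp only [Matrix.mul_apply, Matrix.transpose_apply, Matrix.map_apply, h.pow]
    exact Finset.sum_congr rfl fun l _ => mul_comm _ _
  rw [mem_GU_iff_cols h.pow hq, ← Matrix.ext_iff]
  constructor
  · intro hg i j
    rw [← key, hg, Matrix.one_apply]
    simp [eq_comm]
  · intro hg i j
    rw [key, hg, Matrix.one_apply]
    simp [eq_comm]

/-- A field automorphism applied entrywise to `GU`. -/
def mapGU (τ : F ≃+* F) : Cfsg.GU n F q →* Cfsg.GU n F q :=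
  ((Matrix.GeneralLinearGroup.map (τ : F →+* F)).comp (Cfsg.GU n F q).subtype).codRestrict _
    fun g => map_mem_GU τ g

theorem mapGU_val (τ : F ≃+* F) (g : Cfsg.GU n F q) : (mapGU τ g).1.1 = g.1.1.map τ := rfl

theorem fld_δ' (τ : F ≃+* F) (g : Cfsg.GU n F q) :
    fld τ * δ g = (δ (mapGU τ g) * fld τ : MulAut (Cfsg.PSU n F q)) := fld_δ τ g

theorem scalarGU_val (u : normOne F q) (g : Cfsg.GU n F q) :
    (scalarGU n F q u * g).1.1 = ((u : Fˣ) : F) • g.1.1 := by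
  show Matrix.scalar (Fin n) ((u : Fˣ) : F) * g.1.1 = _
  rw [Matrix.scalar_apply, ← Matrix.smul_one_eq_diagonal, smul_mul_assoc, one_mul]

theorem scalarGU_coe (u : normOne F q) :
    (scalarGU n F q u).1.1 = ((u : Fˣ) : F) • (1 : Matrix (Fin n) (Fin n) F) := by
  show Matrix.scalar (Fin n) ((u : Fˣ) : F) = _
  rw [Matrix.scalar_apply, ← Matrix.smul_one_eq_diagonal]

theorem sprod_smul (a : F) (g : Matrix (Fin n) (Fin n) F) (τ : F ≃+* F) (k : ℕ) :
    sprod (a • g) τ k = (∏ l ∈ Finset.range k, (τ ^ l : F ≃+* F) a) • sprod g τ k := by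
  induction k with
  | zero => simp [sprod]
  | succ k ih =>
    rw [sprod_succ', ih, map_smul_mat, Finset.prod_range_succ, sprod_succ', smul_mul_assoc,
      mul_smul_comm, smul_smul]

/-- The fixed field `F₀` of `τ`, embedded by `ι`, with its own unitary data. -/
structure Sub (τ : F ≃+* F) (r q : ℕ) {F₀ : Type*} [Field F₀] (σ₀ : F₀ →+* F₀) (q₀ : ℕ)
    (ι : F₀ →+* F) : Prop where
  odd : Odd r
  order : orderOf τ = r
  card : Nat.card F₀ = q₀ ^ 2
  frob : UFrob σ₀ q₀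
  fix : ∀ x, τ x = x ↔ ∃ y, ι y = x
  pow : q = q₀ ^ r

section Sub

variable {τ : F ≃+* F} {r : ℕ} {F₀ : Type*} [Field F₀] [Finite F₀] {σ₀ : F₀ →+* F₀} {q₀ : ℕ}
  {ι : F₀ →+* F}

theorem Sub.q₀_ne (B : Sub τ r q σ₀ q₀ ι) : q₀ ≠ 0 := by
  have := two_le_q B.card
  omega

theorem Sub.pow_eq (B : Sub τ r q σ₀ q₀ ι) (y : F₀) : y ^ q = y ^ q₀ := by
  have h : y ^ q₀ ^ 2 = y := by
    have := Fintype.ofFinite F₀
    rw [← B.card, Nat.card_eq_fintype_card, FiniteField.pow_card]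
  obtain ⟨k, hk⟩ := B.odd
  rw [B.pow, hk]
  clear hk
  induction k with
  | zero => simp
  | succ k ih => rw [show 2 * (k + 1) + 1 = 2 + (2 * k + 1) by ring, pow_add, pow_mul, h, ih]

theorem Sub.σ_ι (B : Sub τ r q σ₀ q₀ ι) (h : UFrob σ q) (y : F₀) : σ (ι y) = ι (σ₀ y) := by
  rw [h.pow, B.frob.pow, ← map_pow, B.pow_eq]

theorem Sub.map_ι_mem (B : Sub τ r q σ₀ q₀ ι) (h : UFrob σ q) (hq : q ≠ 0) (g : Cfsg.GU n F₀ q₀) :
    Matrix.GeneralLinearGroup.map ι g.1 ∈ Cfsg.GU n F q := by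
  rw [mem_GU_iff_mat h hq]
  have hg := (mem_GU_iff_mat B.frob B.q₀_ne).1 g.2
  show ((g.1.1.map ι).map σ)ᵀ * g.1.1.map ι = 1
  have hm : (g.1.1.map ι).map σ = (g.1.1.map σ₀).map ι := by
    ext i j
    exact B.σ_ι h _
  rw [hm, ← Matrix.transpose_map, ← Matrix.map_mul, hg, Matrix.map_one ι ι.map_zero ι.map_one]

/-- The inclusion of the unitary group over the fixed field. -/
def Sub.incl (B : Sub τ r q σ₀ q₀ ι) (h : UFrob σ q) (hq : q ≠ 0) :
    Cfsg.GU n F₀ q₀ →* Cfsg.GU n F q :=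
  ((Matrix.GeneralLinearGroup.map ι).comp (Cfsg.GU n F₀ q₀).subtype).codRestrict _
    (B.map_ι_mem h hq)

theorem Sub.incl_val (B : Sub τ r q σ₀ q₀ ι) (h : UFrob σ q) (hq : q ≠ 0) (g : Cfsg.GU n F₀ q₀) :
    (B.incl h hq g).1.1 = g.1.1.map ι := rfl

theorem Sub.exists_lift (B : Sub τ r q σ₀ q₀ ι) {A : Matrix (Fin n) (Fin n) F}
    (hA : A.map τ = A) : ∃ A₀ : Matrix (Fin n) (Fin n) F₀, A₀.map ι = A := by
  have he : ∀ i j, ∃ y, ι y = A i j := fun i j => (B.fix _).1 (congrFun (congrFun hA i) j)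
  choose M hM using he
  exact ⟨Matrix.of M, by ext i j; exact hM i j⟩

variable [Finite F]

theorem Setting.q_ne (S : Setting F σ p q n) : q ≠ 0 := by
  have := two_le_q S.card
  omega

theorem Setting.normOne_pow (S : Setting F σ p q n) (u : normOne F q) :
    ((u : Fˣ) : Fˣ) ^ q = (u : Fˣ)⁻¹ :=
  eq_inv_of_mul_eq_one_left (by rw [← pow_succ]; exact MonoidHom.mem_ker.1 u.2)

/-- Descent inside `GU`. -/
theorem Setting.descent_GU [NeZero n] (S : Setting F σ p q n) (B : Sub τ r q σ₀ q₀ ι)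
    (g : Cfsg.GU n F q) {u₀ : normOne F q} (hs : sprod g.1.1 τ r = ((u₀ : Fˣ) : F) • 1) :
    ∃ (U : Cfsg.GU n F q) (u : normOne F q), scalarGU n F q u * g * mapGU τ U = U := by
  classical
  have hr : 0 < r := B.odd.pos
  set c : F := ((u₀ : Fˣ) : F)
  have hc : τ c = c := by
    have hτr : τ ^ r = 1 := B.order ▸ pow_orderOf_eq_one τ
    have e1 : sprod g.1.1 τ (r + 1) = τ c • g.1.1 := by
      rw [sprod, hs, map_smul_mat, Matrix.map_one τ τ.map_zero τ.map_one, mul_smul_comm, mul_one]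
    have e2 : sprod g.1.1 τ (r + 1) = c • g.1.1 := by
      rw [sprod_succ', hs, hτr, smul_mul_assoc, one_mul]
      congr 1
    by_contra hne
    have : (τ c - c) • g.1.1 = 0 := by rw [sub_smul, ← e1, ← e2, sub_self]
    exact g.1.isUnit.ne_zero ((smul_eq_zero.1 this).resolve_left (sub_ne_zero.2 hne))
  obtain ⟨v, hv⟩ : ((u₀ : Fˣ))⁻¹ ∈ (normHom τ r).range := by
    rw [range_normHom hr B.order, mem_fixedUnits, Units.val_inv_eq_inv_val, map_inv₀, hc]
  have hck : ∀ k : ℕ, (τ ^ k : F ≃+* F) c = c := fun k => by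
    induction k with
    | zero => rfl
    | succ k ih => rw [pow_succ']; show τ ((τ ^ k) c) = c; rw [ih, hc]
  have hu₀ : normHom τ r (u₀ : Fˣ) = (u₀ : Fˣ) ^ r := Units.ext (by
    rw [Descent.normHom_apply, Units.val_pow_eq_pow_val, Finset.prod_congr rfl fun k _ => hck k,
      Finset.prod_const, Finset.card_range])
  have hvq : v * (v ^ q)⁻¹ ∈ normOne F q := by
    refine MonoidHom.mem_ker.2 (show (v * (v ^ q)⁻¹) ^ (q + 1) = 1 from ?_)
    have hvv : v ^ (q * q) = v := Units.ext (by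
      have := Fintype.ofFinite F
      rw [Units.val_pow_eq_pow_val, ← sq, ← S.card, Nat.card_eq_fintype_card, FiniteField.pow_card])
    rw [mul_pow, inv_pow, ← pow_mul, mul_add, mul_one, pow_add v (q * q), hvv, ← pow_succ',
      mul_inv_cancel]
  set u : normOne F q := u₀ * ⟨_, hvq⟩ ^ ((r + 1) / 2) with hudef
  have hu : normHom τ r (u : Fˣ) = (u₀ : Fˣ)⁻¹ := by
    rw [hudef, Subgroup.coe_mul, SubmonoidClass.coe_pow, map_mul, map_pow, map_mul, map_inv,
      map_pow, hv, hu₀, inv_pow, inv_inv, S.normOne_pow, ← pow_two, ← pow_mul,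
      show 2 * ((r + 1) / 2) = r + 1 by obtain ⟨k, rfl⟩ := B.odd; omega, pow_succ, inv_pow,
      mul_inv_cancel_left]
  obtain ⟨P, hP⟩ := descent hr B.order (g := (scalarGU n F q u * g).1.1) (by
    rw [scalarGU_val, sprod_smul, ← Descent.normHom_apply, hu, hs, smul_smul, Units.val_inv_eq_inv_val,
      inv_mul_cancel₀ (Units.ne_zero _), one_smul])
  set g' := (scalarGU n F q u * g).1.1 with hg'
  have hg1 : (g'.map σ)ᵀ * g' = 1 := (mem_GU_iff_mat S.frob S.q_ne).1 (scalarGU n F q u * g).2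
  set H : Matrix (Fin n) (Fin n) F := (P.1.map σ)ᵀ * P.1 with hH
  have hcomm : (P.1.map σ).map τ = (P.1.map τ).map σ := by
    ext i j
    simp [S.frob.pow]
  have hHfix : H.map τ = H := by
    rw [hH, Matrix.map_mul, Matrix.transpose_map, hcomm]
    conv_rhs => rw [← hP, Matrix.map_mul, Matrix.transpose_mul, mul_assoc,
      ← mul_assoc (g'.map σ)ᵀ, hg1, one_mul]
  obtain ⟨H₀, hH₀⟩ := B.exists_lift hHfix
  have hHu : IsUnit H₀.det := by
    rw [isUnit_iff_ne_zero]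
    intro h0
    have hd := congrArg Matrix.det hH₀
    rw [← RingHom.mapMatrix_apply, ← RingHom.map_det, h0, map_zero, hH, Matrix.det_mul,
      Matrix.det_transpose, ← RingHom.mapMatrix_apply, ← RingHom.map_det] at hd
    have hPd : P.1.det ≠ 0 := (GeneralLinearGroup.det P).ne_zero
    exact mul_ne_zero ((map_ne_zero σ).2 hPd) hPd hd.symm
  let e₀ : F₀ ≃+* F₀ := RingEquiv.ofBijective σ₀
    (Function.Involutive.bijective B.frob.invol)
  obtain ⟨M, hM⟩ := hermitian_factor (σ := e₀)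
    (fun h => B.frob.ne (RingHom.ext fun y => DFunLike.congr_fun h y)) B.frob.invol
    ((Matrix.isUnit_iff_isUnit_det H₀).2 hHu) (by
      refine Matrix.map_injective ι.injective (?_ : H₀.map ι = ((H₀.map σ₀)ᵀ).map ι)
      rw [Matrix.transpose_map, show (H₀.map σ₀).map ι = (H₀.map ι).map σ by
        ext i j; exact (B.σ_ι S.frob _).symm, hH₀]
      ext i j
      simp [hH, Matrix.mul_apply, map_sum, S.frob.invol, mul_comm])
  have hNdet : ((M.1.map σ₀)ᵀ).det ≠ 0 := by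
    rw [Matrix.det_transpose, ← RingHom.mapMatrix_apply, ← RingHom.map_det]
    exact (map_ne_zero σ₀).2 (GeneralLinearGroup.det M).ne_zero
  let N : GL (Fin n) F := GeneralLinearGroup.map ι (GeneralLinearGroup.mkOfDetNeZero _ hNdet)
  have hN : (N.1.map σ)ᵀ * N.1 = H := by
    show ((((M.1.map σ₀)ᵀ).map ι).map σ)ᵀ * ((M.1.map σ₀)ᵀ).map ι = H
    rw [← hH₀, hM, Matrix.map_mul]
    congr 1
    ext i j
    simp [B.σ_ι S.frob, B.frob.invol]
  have hU : P * N⁻¹ ∈ Cfsg.GU n F q := by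
    rw [mem_GU_iff_mat S.frob S.q_ne, Units.val_mul, Matrix.map_mul, Matrix.transpose_mul,
      mul_assoc, ← mul_assoc (P.1.map σ)ᵀ, ← hH, ← hN, mul_assoc (N.1.map σ)ᵀ, Units.mul_inv,
      mul_one, ← Matrix.transpose_mul, ← Matrix.map_mul, Units.mul_inv,
      Matrix.map_one σ σ.map_zero σ.map_one, Matrix.transpose_one]
  refine ⟨⟨_, hU⟩, u, Subtype.ext (Units.ext ?_)⟩
  show g' * ((P * N⁻¹ : GL (Fin n) F).1).map τ = (P * N⁻¹ : GL (Fin n) F).1
  have hNfix : (N⁻¹ : GL (Fin n) F).1.map τ = (N⁻¹ : GL (Fin n) F).1 := by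
    ext i j
    refine (B.fix _).2 ⟨((GeneralLinearGroup.mkOfDetNeZero _ hNdet)⁻¹).1 i j, ?_⟩
    show ι _ = (N⁻¹).1 i j
    rw [← map_inv (GeneralLinearGroup.map (n := Fin n) ι)]
    rfl
  rw [Units.val_mul, Matrix.map_mul, hNfix, ← mul_assoc, hP]

theorem Setting.fld_injective (S : Setting F σ p q n) (hn : 3 ≤ n) :
    Function.Injective (fld : (F ≃+* F) → MulAut (Cfsg.PSU n F q)) :=
  (injective_iff_map_eq_one _).2 fun τ h => S.fld_mem_range hn ⟨1, by rw [map_one, h]⟩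

/-- `IsFieldAutClassPSU` unfolded. -/
theorem Setting.fieldClass_iff (S : Setting F σ p q n) (hn : 3 ≤ n)
    {x : MulAut (Cfsg.PSU n F q)} (hx : Cfsg.IsFieldAutClassPSU x) :
    ∃ (α : MulAut (Cfsg.PSU n F q)) (τ : F ≃+* F),
      α * x * α⁻¹ = fld τ ∧ orderOf τ = orderOf x ∧ Odd (orderOf τ) := by
  obtain ⟨α, φ, τ, -, hodd, hφ, h⟩ := hx
  rw [fieldAut_iff] at hφ
  subst hφ
  refine ⟨α, τ, h, ?_, hodd⟩
  rw [← orderOf_injective fld (S.fld_injective hn), ← h]
  exact MulEquiv.orderOf_eq (MulAut.conj α) x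

/-- Elements of order `r` in the coset of a standard field automorphism. -/
theorem Setting.field_coset (S : Setting F σ p q n) (hn : 3 ≤ n) (B : Sub τ r q σ₀ q₀ ι) :
    ∀ d ∈ (δ : Cfsg.GU n F q →* MulAut (Cfsg.PSU n F q)).range, orderOf (d * fld τ) = r →
      Cfsg.IsConjUnder (δ : Cfsg.GU n F q →* MulAut (Cfsg.PSU n F q)).range (fld τ)
        (d * fld τ) := by
  have : NeZero n := ⟨by omega⟩
  rintro _ ⟨g, rfl⟩ ho
  have hp : ∀ k, ∃ G : Cfsg.GU n F q, G.1.1 = sprod g.1.1 τ k ∧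
      (δ g * fld τ : MulAut (Cfsg.PSU n F q)) ^ k = δ G * fld (τ ^ k) := by
    intro k
    induction k with
    | zero => exact ⟨1, rfl, by simp⟩
    | succ k ih =>
      obtain ⟨G, hG, he⟩ := ih
      refine ⟨g * mapGU τ G, ?_, ?_⟩
      · rw [sprod, ← hG]
        rfl
      · rw [pow_succ', he, mul_assoc (δ g), ← mul_assoc (fld τ), fld_δ', mul_assoc, ← map_mul,
          ← mul_assoc, ← map_mul, ← pow_succ']
  obtain ⟨G, hG, he⟩ := hp r
  rw [← ho, pow_orderOf_eq_one, ho, ← B.order, pow_orderOf_eq_one, map_one, mul_one] at he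
  obtain ⟨u₀, rfl⟩ := (S.δ_eq_one_iff hn G).1 he.symm
  obtain ⟨U, u, hU⟩ := S.descent_GU B g (u₀ := u₀) (by
    rw [← hG, scalarGU_coe])
  refine ⟨δ U, ⟨U, rfl⟩, ?_⟩
  rw [mul_assoc, ← map_inv, fld_δ', ← mul_assoc, ← map_mul, map_inv (mapGU τ)]
  congr 1
  have hU' : U * (mapGU τ U)⁻¹ = scalarGU n F q u * g := mul_inv_eq_of_eq_mul hU.symm
  rw [hU', map_mul δ, (S.δ_eq_one_iff hn _).2 ⟨u, rfl⟩, one_mul]

/-- Centralising a standard field automorphism. -/
theorem Setting.comm_fld_iff (S : Setting F σ p q n) (hn : 3 ≤ n) (τ : F ≃+* F)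
    (g : Cfsg.GU n F q) :
    δ g * fld τ = (fld τ * δ g : MulAut (Cfsg.PSU n F q)) ↔
      ∃ u : normOne F q, mapGU τ g = scalarGU n F q u * g := by
  rw [fld_δ', mul_left_inj]
  constructor
  · intro h
    obtain ⟨u, hu⟩ := (S.δ_eq_one_iff hn (mapGU τ g * g⁻¹)).1
      (by rw [map_mul, map_inv, ← h, mul_inv_cancel])
    exact ⟨u, mul_inv_eq_iff_eq_mul.1 hu⟩
  · rintro ⟨u, hu⟩
    rw [hu, map_mul, (S.δ_eq_one_iff hn _).2 ⟨u, rfl⟩, one_mul]

/-- Up to a scalar, the centralizer is the unitary group of the fixed field. -/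
theorem Setting.fixed_GU [NeZero n] (S : Setting F σ p q n) (hn : 3 ≤ n)
    (B : Sub τ r q σ₀ q₀ ι) (g : Cfsg.GU n F q) :
    δ g * fld τ = (fld τ * δ g : MulAut (Cfsg.PSU n F q)) ↔
      ∃ (w : normOne F q) (h : Cfsg.GU n F₀ q₀),
        B.incl S.frob S.q_ne h = scalarGU n F q w * g := by
  constructor
  · intro hc
    obtain ⟨u, hu⟩ := (S.comm_fld_iff hn τ g).1 hc
    have hu' : g.1.1.map τ = ((u : Fˣ) : F) • g.1.1 := by
      rw [← scalarGU_val, ← hu, mapGU_val]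
    obtain ⟨a, ha0, ha⟩ := fixed_up_to_scalar B.odd.pos B.order g.1.isUnit.ne_zero hu'
    obtain ⟨M, hM⟩ := B.exists_lift ha
    have hg1 := (mem_GU_iff_mat S.frob S.q_ne).1 g.2
    have hMM : (((M.map σ₀)ᵀ * M).map ι) = (σ a * a) • (1 : Matrix (Fin n) (Fin n) F) := by
      rw [Matrix.map_mul, Matrix.transpose_map, show (M.map σ₀).map ι = (M.map ι).map σ by
        ext i j; exact (B.σ_ι S.frob _).symm, hM, show (a • g.1.1).map σ = σ a • g.1.1.map σ by
          ext i j; simp, Matrix.transpose_smul, smul_mul_assoc, mul_smul_comm, smul_smul, hg1]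
    set ν₀ : F₀ := ((M.map σ₀)ᵀ * M) 0 0
    have hν : ι ν₀ = σ a * a := by
      have := congrFun (congrFun hMM 0) 0
      simpa [Matrix.map_apply] using this
    have hνfix : ν₀ ^ q₀ = ν₀ := ι.injective (by
      rw [← B.frob.pow, ← B.σ_ι S.frob, hν, map_mul, S.frob.invol, mul_comm])
    obtain ⟨b, hb⟩ := exists_pow_succ_eq B.card hνfix
    have hν0 : σ a * a ≠ 0 := mul_ne_zero ((map_ne_zero σ).2 ha0) ha0
    have hb0 : b ≠ 0 := fun h0 => hν0 (by rw [← hν, ← hb, h0, zero_pow (by omega), map_zero])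
    let w₀ : F := a * (ι b)⁻¹
    have hw0 : w₀ ≠ 0 := mul_ne_zero ha0 (inv_ne_zero ((map_ne_zero ι).2 hb0))
    have hw : w₀ ^ (q + 1) = 1 := by
      rw [mul_pow, inv_pow, ← map_pow, pow_succ b, B.pow_eq, ← pow_succ, hb, hν, pow_succ,
        ← S.frob.pow, mul_inv_cancel₀ hν0]
    let w : normOne F q := ⟨Units.mk0 w₀ hw0, MonoidHom.mem_ker.2 (Units.ext hw)⟩
    let M₀ : Matrix (Fin n) (Fin n) F₀ := b⁻¹ • M
    have hM₀ : M₀.map ι = (scalarGU n F q w * g).1.1 := by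
      rw [scalarGU_val]
      show M₀.map ι = (a * (ι b)⁻¹) • g.1.1
      rw [mul_comm, ← smul_smul, ← hM]
      ext i j
      simp [M₀]
    have hdet : M₀.det ≠ 0 := fun h0 => by
      have hd := congrArg Matrix.det hM₀
      rw [← RingHom.mapMatrix_apply, ← RingHom.map_det, h0, map_zero] at hd
      exact (GeneralLinearGroup.det (scalarGU n F q w * g).1).ne_zero hd.symm
    have hmem : GeneralLinearGroup.mkOfDetNeZero M₀ hdet ∈ Cfsg.GU n F₀ q₀ := by
      rw [mem_GU_iff_mat B.frob B.q₀_ne]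
      refine Matrix.map_injective ι.injective (?_ : ((M₀.map σ₀)ᵀ * M₀).map ι = (1 : Matrix _ _ F₀).map ι)
      rw [Matrix.map_mul, Matrix.transpose_map, show (M₀.map σ₀).map ι = (M₀.map ι).map σ by
        ext i j; exact (B.σ_ι S.frob _).symm, hM₀, Matrix.map_one ι ι.map_zero ι.map_one]
      exact (mem_GU_iff_mat S.frob S.q_ne).1 (scalarGU n F q w * g).2
    exact ⟨w, ⟨_, hmem⟩, Subtype.ext (Units.ext hM₀)⟩
  · rintro ⟨w, h, hh⟩
    have hfix : mapGU τ (B.incl S.frob S.q_ne h) = B.incl S.frob S.q_ne h := by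
      refine Subtype.ext (Units.ext ?_)
      ext i j
      exact (B.fix _).2 ⟨_, rfl⟩
    have key : δ g = (δ (B.incl S.frob S.q_ne h) : MulAut (Cfsg.PSU n F q)) := by
      rw [hh, map_mul, (S.δ_eq_one_iff hn _).2 ⟨w, rfl⟩, one_mul]
    rw [key, fld_δ', hfix]

/-- Centraliser of a standard field automorphism. -/
theorem Setting.field_centralizer (S : Setting F σ p q n) (hn : 3 ≤ n) (B : Sub τ r q σ₀ q₀ ι) :
    Nonempty (↥((δ : Cfsg.GU n F q →* MulAut (Cfsg.PSU n F q)).range ⊓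
      Subgroup.centralizer {(fld τ : MulAut (Cfsg.PSU n F q))}) ≃* Cfsg.PGU n F₀ q₀) := by
  have : NeZero n := ⟨by omega⟩
  let ψ : Cfsg.GU n F₀ q₀ →* MulAut (Cfsg.PSU n F q) := δ.comp (B.incl S.frob S.q_ne)
  have hrange : (δ : Cfsg.GU n F q →* MulAut (Cfsg.PSU n F q)).range ⊓
      Subgroup.centralizer {(fld τ : MulAut (Cfsg.PSU n F q))} = ψ.range := by
    ext β
    rw [Subgroup.mem_inf, Subgroup.mem_centralizer_singleton_iff]
    constructor
    · rintro ⟨⟨g, rfl⟩, hc⟩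
      obtain ⟨w, h, hh⟩ := (S.fixed_GU hn B g).1 hc
      refine ⟨h, ?_⟩
      rw [MonoidHom.comp_apply, hh, map_mul, (S.δ_eq_one_iff hn _).2 ⟨w, rfl⟩, one_mul]
    · rintro ⟨h, rfl⟩
      exact ⟨⟨_, rfl⟩, (S.fixed_GU hn B _).2 ⟨1, h, by rw [map_one, one_mul]⟩⟩
  have hker : ψ.ker = (Cfsg.Geo.scalars (Fin n) F₀).subgroupOf (Cfsg.GU n F₀ q₀) := by
    ext h
    rw [MonoidHom.mem_ker, MonoidHom.comp_apply, S.δ_eq_one_iff hn, Subgroup.mem_subgroupOf,
      Cfsg.Geo.mem_scalars_iff]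
    constructor
    · rintro ⟨u, hu⟩
      have hdiag : ∀ i j, ι (h.1.1 i j) = (((u : Fˣ) : F) • (1 : Matrix (Fin n) (Fin n) F)) i j := by
        intro i j
        have := congrArg (fun x : Cfsg.GU n F q => x.1.1) hu
        simp only [Sub.incl_val, scalarGU_coe] at this
        exact congrFun (congrFun this i) j
      have h0 : h.1.1 0 0 ≠ 0 := fun h0 => by
        have := hdiag 0 0
        rw [h0, map_zero] at this
        simp [eq_comm] at this
      refine ⟨Units.mk0 _ h0, ?_⟩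
      ext i j
      refine ι.injective ?_
      rw [hdiag i j]
      have := hdiag 0 0
      rcases eq_or_ne i j with rfl | hij <;> simp_all
    · rintro ⟨c, hc⟩
      have hmem := (mem_GU_iff_mat S.frob S.q_ne).1 (B.incl S.frob S.q_ne h).2
      rw [Sub.incl_val, hc, show ((c : F₀) • (1 : Matrix (Fin n) (Fin n) F₀)).map ι =
        ι c • 1 by ext i j; rcases eq_or_ne i j with rfl | hij <;> simp [*]] at hmem
      have hc1 : (Units.map (ι : F₀ →* F) c) ^ (q + 1) = 1 := Units.ext (by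
        have := congrFun (congrFun hmem 0) 0
        simpa [Matrix.mul_apply, Matrix.one_apply, S.frob.pow, pow_succ] using this)
      refine ⟨⟨_, MonoidHom.mem_ker.2 hc1⟩, Subtype.ext (Units.ext ?_)⟩
      rw [Sub.incl_val, hc, scalarGU_coe]
      ext i j
      rcases eq_or_ne i j with rfl | hij <;> simp [*]
  exact ⟨(MulEquiv.subgroupCongr hrange).trans ((QuotientGroup.quotientKerEquivRange ψ).symm.trans
    (QuotientGroup.quotientMulEquivOfEq hker))⟩

omit [Finite F] in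
theorem Sub.normOne_map (B : Sub τ r q σ₀ q₀ ι) (u : normOne F₀ q₀) :
    Units.map (ι : F₀ →* F) (u : F₀ˣ) ∈ normOne F q := by
  refine MonoidHom.mem_ker.2 (Units.ext ?_)
  have h1 : ((u : F₀ˣ) : F₀) ^ (q₀ + 1) = 1 := congrArg Units.val (MonoidHom.mem_ker.1 u.2)
  show (ι ((u : F₀ˣ) : F₀)) ^ (q + 1) = 1
  rw [← map_pow, pow_succ, B.pow_eq, ← pow_succ, h1, map_one]

/-- The norm one units of the fixed field inside those of `F`. -/
def Sub.unitIncl (B : Sub τ r q σ₀ q₀ ι) : normOne F₀ q₀ →* normOne F q :=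
  ((Units.map (ι : F₀ →* F)).comp (normOne F₀ q₀).subtype).codRestrict _ B.normOne_map

/-- Splitting of the class of a standard field automorphism. -/
theorem Setting.field_split (S : Setting F σ p q n) (hn : 3 ≤ n) (B : Sub τ r q σ₀ q₀ ι) :
    Cfsg.splitClassCount (δ : Cfsg.GU n F q →* MulAut (Cfsg.PSU n F q)).range
      (Cfsg.Inn (Cfsg.PSU n F q)) (fld τ) = Nat.gcd n ((q + 1) / (q₀ + 1)) := by
  have : NeZero n := ⟨by omega⟩
  haveI := Cfsg.innNormal (Cfsg.PSU n F q)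
  have hn1 : 1 ≤ n := by omega
  have hdsurj : Function.Surjective (detN S.card hn1 : Cfsg.GU n F q →* normOne F q) := fun u => by
    obtain ⟨g, hg⟩ := (guDet_range S.card hn1).ge u.2
    exact ⟨g, Subtype.ext hg⟩
  rw [splitClassCount_range δ _ (by rw [inn_eq]; rintro _ ⟨s, rfl⟩; exact ⟨_, rfl⟩)]
  set R := (powMonoidHom n : normOne F q →* normOne F q).range with hR
  set C := (Subgroup.centralizer {(fld τ : MulAut (Cfsg.PSU n F q))}).comap δ with hC
  have hK : (Cfsg.Inn (Cfsg.PSU n F q)).comap δ = R.comap (detN S.card hn1) := by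
    ext g
    exact S.δ_mem_inn_iff hn g
  have hdet : ∀ h : Cfsg.GU n F₀ q₀, detN S.card hn1 (B.incl S.frob S.q_ne h) =
      B.unitIncl (detN B.card hn1 h) := fun h => Subtype.ext (Units.ext (by
    show (h.1.1.map ι).det = ι h.1.1.det
    rw [← RingHom.mapMatrix_apply, ← RingHom.map_det]))
  have hL : R ⊔ C.map (detN S.card hn1) = R ⊔ B.unitIncl.range := by
    refine le_antisymm (sup_le le_sup_left ?_) (sup_le le_sup_left ?_)
    · rintro _ ⟨g, hg, rfl⟩
      obtain ⟨w, h, hh⟩ := (S.fixed_GU hn B g).1 (Subgroup.mem_centralizer_singleton_iff.1 hg)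
      have : g = scalarGU n F q w⁻¹ * B.incl S.frob S.q_ne h := by
        rw [hh, map_inv, inv_mul_cancel_left]
      rw [this, map_mul, detN_scalar, hdet]
      exact Subgroup.mul_mem_sup ⟨_, rfl⟩ ⟨_, rfl⟩
    · rintro _ ⟨u, rfl⟩
      obtain ⟨h, hh⟩ : ∃ h : Cfsg.GU n F₀ q₀, detN B.card hn1 h = u := by
        obtain ⟨h, hh⟩ := (guDet_range B.card hn1).ge u.2
        exact ⟨h, Subtype.ext hh⟩
      refine Subgroup.mem_sup_right ⟨B.incl S.frob S.q_ne h, ?_, by rw [hdet, hh]⟩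
      exact Subgroup.mem_centralizer_singleton_iff.2
        ((S.fixed_GU hn B _).2 ⟨1, h, by rw [map_one, one_mul]⟩)
  have hJ : R.comap (detN S.card hn1) ⊔ C = (R ⊔ B.unitIncl.range).comap (detN S.card hn1) := by
    rw [← hL, ← Subgroup.comap_sup_eq _ _ _ hdsurj, Subgroup.comap_map_eq, sup_comm C,
      ← sup_assoc, sup_eq_left.2 (Subgroup.ker_le_comap _ _)]
  rw [hK, hJ, Subgroup.index_comap_of_surjective _ hdsurj, index_sup_cyclic, hR,
    IsCyclic.index_powMonoidHom_range, card_normOne S.card]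
  have hinj : Function.Injective (B.unitIncl : normOne F₀ q₀ →* normOne F q) := fun a b h =>
    Subtype.ext (Units.ext (ι.injective (congrArg (fun x : normOne F q => ((x : Fˣ) : F)) h)))
  have hidx := Subgroup.index_mul_card B.unitIncl.range
  rw [← Nat.card_congr (MonoidHom.ofInjective hinj).toEquiv, card_normOne B.card,
    card_normOne S.card] at hidx
  have hi : B.unitIncl.range.index = (q + 1) / (q₀ + 1) :=
    (Nat.div_eq_of_eq_mul_left (by omega) hidx.symm).symm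
  rw [hi, Nat.gcd_assoc, Nat.gcd_left_comm, Nat.gcd_comm (q + 1),
    Nat.gcd_eq_left (hi ▸ hidx ▸ dvd_mul_right _ _ : (q + 1) / (q₀ + 1) ∣ q + 1)]

end Sub

/-- The data attached to a standard field automorphism of odd prime order. -/
theorem exists_sub [Fintype F] {f : ℕ} [Fact p.Prime] (hq : q = p ^ f)
    (hF : Fintype.card F = q ^ 2) {τ : F ≃+* F} {r : ℕ} (hr : r.Prime) (hodd : Odd r)
    (ho : orderOf τ = r) :
    r ∣ f ∧ ∀ (F₀ : Type*) [Field F₀] [Fintype F₀], Fintype.card F₀ = p ^ (2 * (f / r)) →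
      ∃ (σ₀ : F₀ →+* F₀) (ι : F₀ →+* F), Sub τ r q σ₀ (p ^ (f / r)) ι := by
  obtain ⟨hdvd, hι⟩ := fixed_field (p := p) (f := 2 * f) (by rw [hF, hq, ← pow_mul, mul_comm])
    τ hr.pos ho
  have hrf : r ∣ f := (Nat.Coprime.dvd_of_dvd_mul_left
    ((Nat.coprime_two_right).2 hodd) hdvd)
  refine ⟨hrf, fun F₀ _ _ h0 => ?_⟩
  obtain ⟨ι, hfix⟩ := hι F₀ (by rw [h0, Nat.mul_div_assoc 2 hrf])
  have hc : Nat.card F₀ = (p ^ (f / r)) ^ 2 := by
    rw [Nat.card_eq_fintype_card, h0, ← pow_mul, mul_comm]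
  obtain ⟨σ₀, hσ₀⟩ := exists_uFrob hc
  exact ⟨σ₀, ι, hodd, ho, hc, hσ₀, hfix, by rw [hq, ← pow_mul, Nat.div_mul_cancel hrf]⟩

end CfsgLib.KnownB.PSUAut
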