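import Cfsg.Agent.Lib.KnownB.PSUAut.Image

/-!
`PSU_n(q)`: how semilinear maps move the root elements; the elements swapping a hyperbolic pair.
-/

set_option autoImplicit false

namespace CfsgLib.KnownB.PSUAut

open Matrix CfsgLib.Classical CfsgLib.Classical.Unitary

variable {n : ℕ} {F : Type*} [Field F] {q p : ℕ} {σ : F →+* F}

theorem uel_zero (h : UFrob σ q) (e : Fin n → F) (c : F) (hee : uh σ e e = 0)
    (h0 : uh σ (0 : Fin n → F) e = 0) (hc : c + σ c + uh σ (0 : Fin n → F) 0 = 0) :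
    uel h e 0 c hee h0 hc = utv h e c hee (by simpa [uh_zero_left] using hc) := by
  refine su_ext fun z => ?_
  rw [uel_mulVec, utv_mulVec, uh_zero_right, smul_zero, add_zero, sub_zero]

theorem uel_smul (h : UFrob σ q) (e x : Fin n → F) (a c : F) (hee : uh σ (a • e) (a • e) = 0)
    (hee' : uh σ e e = 0) (hxe : uh σ x (a • e) = 0) (hxe' : uh σ (σ a • x) e = 0)
    (hc : c + σ c + uh σ x x = 0)
    (hc' : a * σ a * c + σ (a * σ a * c) + uh σ (σ a • x) (σ a • x) = 0) :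
    uel h (a • e) x c hee hxe hc = uel h e (σ a • x) (a * σ a * c) hee' hxe' hc' := by
  refine su_ext fun z => ?_
  simp only [uel_mulVec, uh_smul_right, h.invol]
  module

theorem smul_param (h : UFrob σ q) (a : F) {x : Fin n → F} {c : F}
    (hc : c + σ c + uh σ x x = 0) :
    a * σ a * c + σ (a * σ a * c) + uh σ (σ a • x) (σ a • x) = 0 := by
  simp only [map_mul, h.invol, uh_smul_left, uh_smul_right]
  linear_combination (a * σ a) * hc

theorem su_conj_uel (h : UFrob σ q) (g : Cfsg.SU n F q) (e x : Fin n → F) (c : F)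
    (hee : uh σ e e = 0) (hxe : uh σ x e = 0) (hc : c + σ c + uh σ x x = 0) :
    g * uel h e x c hee hxe hc * g⁻¹ =
      uel h (g.1.1 *ᵥ e) (g.1.1 *ᵥ x) c (by rw [su_uh h, hee]) (by rw [su_uh h, hxe])
        (by rw [su_uh h]; exact hc) := by
  refine su_ext fun z => ?_
  obtain ⟨y, rfl⟩ : ∃ y, g.1.1 *ᵥ y = z := ⟨_, su_mulVec_inv g z⟩
  rw [su_mul_mulVec, su_mul_mulVec, su_inv_mulVec, uel_mulVec, uel_mulVec, mulVec_add, mulVec_add,
    mulVec_smul, mulVec_smul, su_uh h, su_uh h]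

theorem conjSU_utv (h : UFrob σ q) (g : Cfsg.GU n F q) (v : Fin n → F) (c : F)
    (hv : uh σ v v = 0) (hc : c + σ c = 0) :
    conjSU g (utv h v c hv hc) = utv h (g.1.1 *ᵥ v) c (by rw [gu_uh h g.2, hv]) hc := by
  refine su_ext fun z => ?_
  obtain ⟨y, rfl⟩ : ∃ y, g.1.1 *ᵥ y = z :=
    ⟨(g.1⁻¹).1 *ᵥ z, by rw [mulVec_mulVec, g.1.mul_inv, one_mulVec]⟩
  rw [conjSU_mulVec, utv_mulVec, utv_mulVec, mulVec_add, mulVec_smul, gu_uh h g.2]

theorem conjSU_uel (h : UFrob σ q) (g : Cfsg.GU n F q) (e x : Fin n → F) (c : F)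
    (hee : uh σ e e = 0) (hxe : uh σ x e = 0) (hc : c + σ c + uh σ x x = 0) :
    conjSU g (uel h e x c hee hxe hc) =
      uel h (g.1.1 *ᵥ e) (g.1.1 *ᵥ x) c (by rw [gu_uh h g.2, hee]) (by rw [gu_uh h g.2, hxe])
        (by rw [gu_uh h g.2]; exact hc) := by
  refine su_ext fun z => ?_
  obtain ⟨y, rfl⟩ : ∃ y, g.1.1 *ᵥ y = z :=
    ⟨(g.1⁻¹).1 *ᵥ z, by rw [mulVec_mulVec, g.1.mul_inv, one_mulVec]⟩
  rw [conjSU_mulVec, uel_mulVec, uel_mulVec, mulVec_add, mulVec_add, mulVec_smul, mulVec_smul,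
    gu_uh h g.2, gu_uh h g.2]

theorem commute_frob (h : UFrob σ q) (τ : F ≃+* F) (a : F) : σ (τ a) = τ (σ a) := by
  rw [h.pow, h.pow, map_pow]

theorem uh_map (h : UFrob σ q) (τ : F ≃+* F) (u v : Fin n → F) :
    uh σ (τ ∘ u) (τ ∘ v) = τ (uh σ u v) := by
  simp [uh, dotProduct, map_sum, commute_frob h]

theorem skew_map (h : UFrob σ q) (τ : F ≃+* F) {c : F} (hc : c + σ c = 0) : τ c + σ (τ c) = 0 := by
  rw [commute_frob h, ← map_add, hc, map_zero]

theorem fieldSU_utv (h : UFrob σ q) (τ : F ≃+* F) (v : Fin n → F) (c : F)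
    (hv : uh σ v v = 0) (hc : c + σ c = 0) :
    fieldSU τ (utv h v c hv hc) =
      utv h (τ ∘ v) (τ c) (by rw [uh_map h, hv, map_zero]) (skew_map h τ hc) := by
  refine su_ext fun z => ?_
  obtain ⟨y, rfl⟩ : ∃ y, τ ∘ y = z := ⟨τ.symm ∘ z, by funext i; simp⟩
  rw [fieldSU_mulVec, utv_mulVec, utv_mulVec, uh_map h]
  funext i; simp

theorem fieldSU_uel (h : UFrob σ q) (τ : F ≃+* F) (e x : Fin n → F) (c : F)
    (hee : uh σ e e = 0) (hxe : uh σ x e = 0) (hc : c + σ c + uh σ x x = 0) :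
    fieldSU τ (uel h e x c hee hxe hc) =
      uel h (τ ∘ e) (τ ∘ x) (τ c) (by rw [uh_map h, hee, map_zero]) (by rw [uh_map h, hxe, map_zero])
        (by rw [uh_map h, commute_frob h, ← map_add, ← map_add, hc, map_zero]) := by
  refine su_ext fun z => ?_
  obtain ⟨y, rfl⟩ : ∃ y, τ ∘ y = z := ⟨τ.symm ∘ z, by funext i; simp⟩
  rw [fieldSU_mulVec, uel_mulVec, uel_mulVec, uh_map h, uh_map h]
  funext i; simp

/-- The semilinear map underlying `δ g * fld τ`. -/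
def semi (g : Cfsg.GU n F q) (τ : F ≃+* F) (v : Fin n → F) : Fin n → F := g.1.1 *ᵥ (τ ∘ v)

theorem uh_semi (h : UFrob σ q) (g : Cfsg.GU n F q) (τ : F ≃+* F) (u v : Fin n → F) :
    uh σ (semi g τ u) (semi g τ v) = τ (uh σ u v) := by
  rw [semi, semi, gu_uh h g.2, uh_map h]

theorem semi_utv (h : UFrob σ q) (g : Cfsg.GU n F q) (τ : F ≃+* F) (v : Fin n → F) (c : F)
    (hv : uh σ v v = 0) (hc : c + σ c = 0) :
    (δ g * fld τ : MulAut (Cfsg.PSU n F q)) (π n F q (utv h v c hv hc)) =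
      π n F q (utv h (semi g τ v) (τ c) (by rw [uh_semi h, hv, map_zero]) (skew_map h τ hc)) := by
  rw [MulAut.mul_apply, fld_π, δ_π, fieldSU_utv h, conjSU_utv h]
  rfl

theorem semi_uel (h : UFrob σ q) (g : Cfsg.GU n F q) (τ : F ≃+* F) (e x : Fin n → F) (c : F)
    (hee : uh σ e e = 0) (hxe : uh σ x e = 0) (hc : c + σ c + uh σ x x = 0) :
    (δ g * fld τ : MulAut (Cfsg.PSU n F q)) (π n F q (uel h e x c hee hxe hc)) =
      π n F q (uel h (semi g τ e) (semi g τ x) (τ c) (by rw [uh_semi h, hee, map_zero])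
        (by rw [uh_semi h, hxe, map_zero])
        (by rw [uh_semi h, commute_frob h, ← map_add, ← map_add, hc, map_zero])) := by
  rw [MulAut.mul_apply, fld_π, δ_π, fieldSU_uel h, conjSU_uel h]
  rfl

theorem utv_zero (h : UFrob σ q) (v : Fin n → F) (hv : uh σ v v = 0) (hc : (0 : F) + σ 0 = 0) :
    utv h v 0 hv hc = 1 :=
  su_ext fun x => by rw [utv_mulVec, zero_mul, zero_smul, add_zero, su_one_mulVec]

theorem inv_skew {c : F} (hc : c + σ c = 0) : -c⁻¹ + σ (-c⁻¹) = 0 := by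
  rw [map_neg, map_inv₀, eq_neg_of_add_eq_zero_right hc, inv_neg]
  ring

/-- The element swapping the points `e` and `f`. -/
noncomputable def swapEl (h : UFrob σ q) {e f : Fin n → F} (H : HPair σ e f) (c : F)
    (hc : c + σ c = 0) : Cfsg.SU n F q :=
  utv h e c H.ee hc * utv h f (-c⁻¹) H.ff (inv_skew hc) * utv h e c H.ee hc

theorem swapEl_e (h : UFrob σ q) {e f : Fin n → F} (H : HPair σ e f) {c : F} (hc : c + σ c = 0)
    (hc0 : c ≠ 0) : (swapEl h H c hc).1.1 *ᵥ e = -c⁻¹ • f := by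
  simp only [swapEl, su_mul_mulVec, utv_mulVec, uh_add_left, uh_smul_left, H.ee, H.ef, H.fe, mul_zero,
    zero_smul, add_zero, mul_one, zero_add]
  rw [show c * -c⁻¹ = -1 by field_simp]
  module

theorem swapEl_f (h : UFrob σ q) {e f : Fin n → F} (H : HPair σ e f) {c : F} (hc : c + σ c = 0)
    (hc0 : c ≠ 0) : (swapEl h H c hc).1.1 *ᵥ f = c • e := by
  simp only [swapEl, su_mul_mulVec, utv_mulVec, uh_add_left, uh_smul_left, H.ee, H.ef, H.fe, H.ff,
    mul_zero, mul_one, zero_add, add_zero]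
  rw [show -c⁻¹ * c = -1 by field_simp]
  module

theorem swapEl_w (h : UFrob σ q) {e f : Fin n → F} (H : HPair σ e f) {c : F} (hc : c + σ c = 0)
    {w : Fin n → F} (hw : inW σ e f w) : (swapEl h H c hc).1.1 *ᵥ w = w := by
  simp only [swapEl, su_mul_mulVec, utv_mulVec, hw.1, hw.2, mul_zero, zero_smul, add_zero]

theorem RR_smul (h : UFrob σ q) (e : Fin n → F) {a : F} (ha : a ≠ 0) :
    RR σ n q (a • e) h = RR σ n q e h := by
  have : Ue σ n q (a • e) h = Ue σ n q e h := by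
    ext g
    show (_ ∧ _) ↔ (_ ∧ _)
    rw [mulVec_smul]
    refine and_congr (smul_right_injective _ ha).eq_iff ?_
    constructor
    · intro hg z hz
      obtain ⟨b, hb⟩ := hg z (by rw [uh_smul_right, hz, mul_zero])
      exact ⟨b * a, by rw [hb, smul_smul]⟩
    · intro hg z hz
      rw [uh_smul_right] at hz
      obtain ⟨b, hb⟩ := hg z ((mul_eq_zero.1 hz).resolve_left ((map_ne_zero σ).2 ha))
      exact ⟨b / a, by rw [hb, smul_smul, div_mul_cancel₀ _ ha]⟩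
  rw [RR, RR, this]

theorem TT_smul_subset (h : UFrob σ q) (e : Fin n → F) (a : F) (hee : uh σ e e = 0) :
    TT σ n q (a • e) h ⊆ TT σ n q e h := by
  rintro _ ⟨c, hv, hc, rfl⟩
  exact ⟨a * σ a * c, hee, norm_skew h a hc, congrArg _ (utv_smul h e a c hv hee hc _)⟩

theorem TT_smul (h : UFrob σ q) (e : Fin n → F) {a : F} (ha : a ≠ 0) (hee : uh σ e e = 0) :
    TT σ n q (a • e) h = TT σ n q e h := by
  refine (TT_smul_subset h e a hee).antisymm ?_
  have h1 := TT_smul_subset h (a • e) a⁻¹ (by rw [uh_smul_left, uh_smul_right, hee]; simp)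
  rwa [inv_smul_smul₀ ha] at h1

theorem semi_map_RR (h : UFrob σ q) {e f : Fin n → F} (H : HPair σ e f) (g : Cfsg.GU n F q)
    (τ : F ≃+* F) {x : Cfsg.PSU n F q} (hx : x ∈ RR σ n q e h) :
    (δ g * fld τ : MulAut (Cfsg.PSU n F q)) x ∈ RR σ n q (semi g τ e) h := by
  obtain ⟨u, hu, rfl⟩ := hx
  obtain ⟨x, c, hxW, hc, rfl⟩ := exists_uel h H hu
  rw [semi_uel h]
  exact ⟨_, uel_mem_Ue h _ _ _ _ _ _, rfl⟩

theorem semi_map_TT (h : UFrob σ q) (e : Fin n → F) (g : Cfsg.GU n F q) (τ : F ≃+* F)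
    {x : Cfsg.PSU n F q} (hx : x ∈ TT σ n q e h) :
    (δ g * fld τ : MulAut (Cfsg.PSU n F q)) x ∈ TT σ n q (semi g τ e) h := by
  obtain ⟨c, hv, hc, rfl⟩ := hx
  rw [semi_utv h]
  exact ⟨_, _, _, rfl⟩

/-- A semilinear unitary map sending a pair to scaled copies of a given pair. -/
theorem exists_gu_pair (h : UFrob σ q) {e f : Fin n → F} (H : HPair σ e f) (τ : F ≃+* F) {a : F}
    (ha : a ≠ 0) :
    ∃ g : Cfsg.GU n F q, semi g τ e = a • e ∧ semi g τ f = (σ a)⁻¹ • f := by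
  have H' : HPair σ (τ ∘ e) (τ ∘ f) := ⟨by rw [uh_map h, H.ee, map_zero],
    by rw [uh_map h, H.ff, map_zero], by rw [uh_map h, H.ef, map_one], by rw [uh_map h, H.fe, map_one]⟩
  have hσa : σ a ≠ 0 := (map_ne_zero σ).2 ha
  have H'' : HPair σ (a • e) ((σ a)⁻¹ • f) := ⟨by simp [uh_smul_left, uh_smul_right, H.ee],
    by simp [uh_smul_left, uh_smul_right, H.ff],
    by simp [uh_smul_left, uh_smul_right, H.ef, map_inv₀, h.invol, ha],
    by simp [uh_smul_left, uh_smul_right, H.fe, map_inv₀, h.invol, hσa]⟩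
  obtain ⟨g, hg, hgv⟩ := exists_gu_map h ![τ ∘ e, τ ∘ f] ![a • e, (σ a)⁻¹ • f]
    (pair_li H'.ee H'.ef) (pair_li H''.ee H''.ef) fun i j => by
      fin_cases i <;> fin_cases j <;>
        simp [H'.ee, H'.ef, H'.ff, H'.fe, H''.ee, H''.ef, H''.ff, H''.fe]
  exact ⟨⟨g, hg⟩, hgv 0, hgv 1⟩

end CfsgLib.KnownB.PSUAut
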