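import Cfsg.Agent.Lib.Classical.UnitarySimple
import Cfsg.Agent.Lib.KnownB.PSLAut.Out
import Cfsg.Prelude.Def_LieTypeDatum

/-!
`PSU_n(q)`: the projection, `p`-elements, semilinear automorphisms.
-/

set_option autoImplicit false

namespace CfsgLib.KnownB.PSUAut

open Matrix CfsgLib.Classical CfsgLib.Classical.Unitary

variable {n : ℕ} {F : Type*} [Field F] {q : ℕ}

variable (n F q) in
/-- The projection `SU → PSU`. -/
def π : Cfsg.SU n F q →* Cfsg.PSU n F q := QuotientGroup.mk' _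

theorem π_surjective : Function.Surjective (π n F q) := QuotientGroup.mk'_surjective _

theorem π_eq_one_iff {g : Cfsg.SU n F q} :
    π n F q g = 1 ↔ g ∈ Subgroup.center (Cfsg.SU n F q) :=
  QuotientGroup.eq_one_iff g

/-- The standing data: a field of order `q²` of characteristic `p`. -/
structure Setting (F : Type*) [Field F] (σ : F →+* F) (p q n : ℕ) : Prop where
  card : Nat.card F = q ^ 2
  frob : UFrob σ q
  char : CharP F p
  prime : p.Prime
  two : 2 ≤ n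

theorem Setting.dvd [Finite F] {σ : F →+* F} {p : ℕ} (S : Setting F σ p q n) : p ∣ q := by
  have := Fintype.ofFinite F
  have := S.char
  obtain ⟨k, -, hk⟩ := FiniteField.card F p
  refine S.prime.dvd_of_dvd_pow (n := 2) ?_
  rw [← S.card, Nat.card_eq_fintype_card, hk]
  exact dvd_pow_self p k.ne_zero

/-- `g` is a `p`-element. -/
def PEl (p : ℕ) {G : Type*} [Group G] (g : G) : Prop := ∃ k : ℕ, g ^ p ^ k = 1

theorem PEl.conj {p : ℕ} {G : Type*} [Group G] {g : G} (h : PEl p g) (x : G) :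
    PEl p (x * g * x⁻¹) := by
  obtain ⟨k, hk⟩ := h
  exact ⟨k, by rw [conj_pow, hk, mul_one, mul_inv_cancel]⟩

theorem PEl.of_mem {p : ℕ} {G : Type*} [Group G] {H : Subgroup G} (hH : IsPGroup p H) {g : G}
    (hg : g ∈ H) : PEl p g := by
  obtain ⟨k, hk⟩ := hH ⟨g, hg⟩
  exact ⟨k, by simpa using congrArg Subtype.val hk⟩

variable {σ : F →+* F} {p : ℕ} [Finite F]

theorem Setting.card_center_coprime (S : Setting F σ p q n) (k : ℕ) :
    (p ^ k).Coprime (Nat.card (Subgroup.center (Cfsg.SU n F q))) := by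
  refine Nat.Coprime.pow_left k ?_
  rw [card_center_SU S.card S.two, S.prime.coprime_iff_not_dvd]
  intro h
  exact S.prime.not_dvd_one ((Nat.dvd_add_right S.dvd).1 (h.trans (Nat.gcd_dvd_right _ _)))

theorem Setting.central_pEl_eq_one (S : Setting F σ p q n) {z : Cfsg.SU n F q}
    (hz : z ∈ Subgroup.center (Cfsg.SU n F q)) (hp : PEl p z) : z = 1 := by
  obtain ⟨k, hk⟩ := hp
  have hc : z ^ Nat.card (Subgroup.center (Cfsg.SU n F q)) = 1 :=
    congrArg Subtype.val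
      (pow_card_eq_one' (x := (⟨z, hz⟩ : Subgroup.center (Cfsg.SU n F q))))
  have := (pow_gcd_eq_one (a := z)).2 ⟨hk, hc⟩
  rwa [S.card_center_coprime k, pow_one] at this

/-- `π` is injective on `p`-elements. -/
theorem Setting.pel_ext (S : Setting F σ p q n) {a b : Cfsg.SU n F q} (ha : PEl p a) (hb : PEl p b)
    (h : π n F q a = π n F q b) : a = b := by
  have hz : a⁻¹ * b ∈ Subgroup.center (Cfsg.SU n F q) := by
    rw [← π_eq_one_iff, map_mul, map_inv, h, inv_mul_cancel]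
  have hcomm : Commute a (a⁻¹ * b) := Subgroup.mem_center_iff.1 hz a
  obtain ⟨k, hk⟩ := ha
  obtain ⟨l, hl⟩ := hb
  have h1 : (a⁻¹ * b) ^ p ^ (k + l) = 1 := by
    have hmul := hcomm.mul_pow (p ^ (k + l))
    have ea : a ^ p ^ (k + l) = 1 := by rw [pow_add, pow_mul, hk, one_pow]
    have eb : b ^ p ^ (k + l) = 1 := by rw [pow_add, mul_comm, pow_mul, hl, one_pow]
    rw [mul_inv_cancel_left, ea, one_mul, eb] at hmul
    exact hmul.symm
  exact inv_mul_eq_one.1 (S.central_pEl_eq_one hz ⟨_, h1⟩)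

/-- Commutation of `p`-elements lifts. -/
theorem Setting.conj_eq (S : Setting F σ p q n) {g a b : Cfsg.SU n F q} (ha : PEl p a)
    (hb : PEl p b) (h : π n F q (g * a * g⁻¹) = π n F q b) : g * a * g⁻¹ = b :=
  S.pel_ext (ha.conj g) hb h

/-- A `p`-subgroup of `PSU` is the image of a `p`-subgroup of `SU`. -/
theorem Setting.exists_lift (S : Setting F σ p q n) (R : Subgroup (Cfsg.PSU n F q))
    (hR : IsPGroup p R) :
    ∃ R' : Subgroup (Cfsg.SU n F q), IsPGroup p R' ∧ R'.map (π n F q) = R := by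
  haveI := Fact.mk S.prime
  obtain ⟨P, hP⟩ := hR.exists_le_sylow
  obtain ⟨P₀⟩ := (inferInstance : Nonempty (Sylow p (Cfsg.SU n F q)))
  obtain ⟨x, hx⟩ := MulAction.exists_smul_eq (Cfsg.PSU n F q) (P₀.mapSurjective π_surjective) P
  obtain ⟨x', rfl⟩ := π_surjective x
  refine ⟨(x' • P₀ : Sylow p (Cfsg.SU n F q)).1 ⊓ R.comap (π n F q),
    IsPGroup.to_le (x' • P₀ : Sylow p (Cfsg.SU n F q)).2 inf_le_left, ?_⟩
  refine le_antisymm ((Subgroup.map_mono inf_le_right).trans (Subgroup.map_comap_le _ _)) ?_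
  intro r hr
  have hr' : r ∈ (π n F q x' • P₀.mapSurjective π_surjective : Sylow p (Cfsg.PSU n F q)).1 := by
    rw [hx]; exact hP hr
  rw [Sylow.coe_subgroup_smul, Sylow.coe_mapSurjective] at hr'
  obtain ⟨_, ⟨a, ha, rfl⟩, rfl⟩ := hr'
  have he : π n F q (x' * a * x'⁻¹) = MulAut.conj (π n F q x') (π n F q a) := by simp
  refine ⟨x' * a * x'⁻¹, ⟨?_, ?_⟩, he⟩
  · exact ⟨a, ha, rfl⟩
  · show π n F q (x' * a * x'⁻¹) ∈ R
    rw [he]; exact hr

/-- Eigenvalues of `p`-elements are `1`. -/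
theorem Setting.eigen_eq_one (S : Setting F σ p q n) {g : Cfsg.SU n F q} (hg : PEl p g)
    {v : Fin n → F} (hv : v ≠ 0) {c : F} (h : g.1.1 *ᵥ v = c • v) : c = 1 := by
  obtain ⟨k, hk⟩ := hg
  have hm : ∀ m : ℕ, (g ^ m).1.1 *ᵥ v = c ^ m • v := fun m => by
    induction m with
    | zero => rw [pow_zero, pow_zero, one_smul]; exact su_one_mulVec v
    | succ m ih => rw [pow_succ, su_mul_mulVec, h, mulVec_smul, ih, smul_smul, pow_succ']
  have h1 := hm (p ^ k)
  rw [hk, su_one_mulVec] at h1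
  have hc : c ^ p ^ k = 1 := by
    have h2 : (c ^ p ^ k - 1) • v = 0 := by rw [sub_smul, one_smul, ← h1, sub_self]
    exact sub_eq_zero.1 ((smul_eq_zero.1 h2).resolve_right hv)
  have := S.char
  haveI := Fact.mk S.prime
  exact iterateFrobenius_inj F p k (by rw [iterateFrobenius_def, iterateFrobenius_def, hc, one_pow])

/-! ### Semilinear automorphisms -/

omit [Finite F] in
/-- Conjugation of `SU` by `GU`. -/
def conjSU : Cfsg.GU n F q →* MulAut (Cfsg.SU n F q) where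
  toFun g :=
    { toFun := fun s => ⟨PSLAut.conjSL g.1 s.1, by
        intro x y
        show Cfsg.hermForm n F q ((g.1.1 * s.1.1 * (g.1⁻¹).1) *ᵥ x)
          ((g.1.1 * s.1.1 * (g.1⁻¹).1) *ᵥ y) = _
        simp only [← mulVec_mulVec]
        exact (g.2 _ _).trans ((s.2 _ _).trans ((inv_mem g.2 : g.1⁻¹ ∈ Cfsg.GU n F q) x y))⟩
      invFun := fun s => ⟨(PSLAut.conjSL g.1).symm s.1, by
        intro x y
        show Cfsg.hermForm n F q (((g.1⁻¹).1 * s.1.1 * g.1.1) *ᵥ x)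
          (((g.1⁻¹).1 * s.1.1 * g.1.1) *ᵥ y) = _
        simp only [← mulVec_mulVec]
        exact ((inv_mem g.2 : g.1⁻¹ ∈ Cfsg.GU n F q) _ _).trans ((s.2 _ _).trans (g.2 x y))⟩
      left_inv := fun s => Subtype.ext ((PSLAut.conjSL g.1).symm_apply_apply s.1)
      right_inv := fun s => Subtype.ext ((PSLAut.conjSL g.1).apply_symm_apply s.1)
      map_mul' := fun s t => Subtype.ext (map_mul (PSLAut.conjSL g.1) s.1 t.1) }
  map_one' := MulEquiv.ext fun s => Subtype.ext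
    (DFunLike.congr_fun (map_one (PSLAut.conjSL (n := n) (F := F))) s.1)
  map_mul' g h := MulEquiv.ext fun s => Subtype.ext
    (DFunLike.congr_fun (map_mul (PSLAut.conjSL (n := n) (F := F)) g.1 h.1) s.1)

omit [Finite F] in
theorem map_mem_SU (τ : F ≃+* F) (s : Cfsg.SU n F q) :
    Matrix.SpecialLinearGroup.map (τ : F →+* F) s.1 ∈ Cfsg.SU n F q := by
  intro x y
  have hv : ∀ z : Fin n → F, (s.1.1.map τ) *ᵥ z = τ ∘ (s.1.1 *ᵥ (τ.symm ∘ z)) := fun z => by
    funext i; simp [mulVec, dotProduct, map_sum]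
  have hh : ∀ u v : Fin n → F,
      Cfsg.hermForm n F q (τ ∘ u) (τ ∘ v) = τ (Cfsg.hermForm n F q u v) := fun u v => by
    simp [Cfsg.hermForm, map_sum, map_pow]
  show Cfsg.hermForm n F q ((s.1.1.map τ) *ᵥ x) ((s.1.1.map τ) *ᵥ y) = _
  rw [hv, hv, hh]
  have := mem_SU_iff.1 s.2 (τ.symm ∘ x) (τ.symm ∘ y)
  rw [this, ← hh]
  simp [Function.comp_def]

omit [Finite F] in
/-- A field automorphism applied entrywise to `SU`. -/
def fieldSU : (F ≃+* F) →* MulAut (Cfsg.SU n F q) where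
  toFun τ :=
    { toFun := fun s => ⟨PSLAut.fieldSL τ s.1, map_mem_SU τ s⟩
      invFun := fun s => ⟨(PSLAut.fieldSL τ).symm s.1, map_mem_SU τ.symm s⟩
      left_inv := fun s => Subtype.ext ((PSLAut.fieldSL τ).symm_apply_apply s.1)
      right_inv := fun s => Subtype.ext ((PSLAut.fieldSL τ).apply_symm_apply s.1)
      map_mul' := fun s t => Subtype.ext (map_mul (PSLAut.fieldSL τ) s.1 t.1) }
  map_one' := MulEquiv.ext fun s => Subtype.ext
    (DFunLike.congr_fun (map_one (PSLAut.fieldSL (n := n) (F := F))) s.1)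
  map_mul' τ υ := MulEquiv.ext fun s => Subtype.ext
    (DFunLike.congr_fun (map_mul (PSLAut.fieldSL (n := n) (F := F)) τ υ) s.1)

omit [Finite F] in
/-- The action of `GU` on `PSU`. -/
noncomputable def δ : Cfsg.GU n F q →* MulAut (Cfsg.PSU n F q) := PSLAut.descend.comp conjSU

omit [Finite F] in
/-- The action of field automorphisms on `PSU`. -/
noncomputable def fld : (F ≃+* F) →* MulAut (Cfsg.PSU n F q) := PSLAut.descend.comp fieldSU

omit [Finite F] in
@[simp] theorem δ_π (g : Cfsg.GU n F q) (s : Cfsg.SU n F q) :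
    δ g (π n F q s) = π n F q (conjSU g s) := rfl

omit [Finite F] in
@[simp] theorem fld_π (τ : F ≃+* F) (s : Cfsg.SU n F q) :
    fld τ (π n F q s) = π n F q (fieldSU τ s) := rfl

omit [Finite F] in
theorem conjSU_mulVec (g : Cfsg.GU n F q) (s : Cfsg.SU n F q) (x : Fin n → F) :
    (conjSU g s).1.1 *ᵥ (g.1.1 *ᵥ x) = g.1.1 *ᵥ (s.1.1 *ᵥ x) := by
  show (g.1.1 * s.1.1 * (g.1⁻¹).1) *ᵥ (g.1.1 *ᵥ x) = _
  rw [mulVec_mulVec, mul_assoc, g.1.inv_mul, mul_one, ← mulVec_mulVec]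

omit [Finite F] in
theorem fieldSU_mulVec (τ : F ≃+* F) (s : Cfsg.SU n F q) (x : Fin n → F) :
    (fieldSU τ s).1.1 *ᵥ (τ ∘ x) = τ ∘ (s.1.1 *ᵥ x) := by
  show (s.1.1.map τ) *ᵥ (τ ∘ x) = _
  funext i
  simp [mulVec, dotProduct, map_sum]

omit [Finite F] in
theorem induced_iff (g : Cfsg.GU n F q) (τ : F ≃+* F)
    (β : Cfsg.PSU n F q ≃* Cfsg.PSU n F q) :
    Cfsg.IsInducedBySemilinearPSU g.1 τ β ↔ β = δ g * fld τ := by
  constructor
  · intro h
    refine MulEquiv.ext fun x => ?_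
    obtain ⟨s, rfl⟩ := π_surjective x
    exact h s (conjSU g (fieldSU τ s)) rfl
  · rintro rfl s s' hs
    refine congrArg (π n F q) (Subtype.ext (Subtype.ext ?_) : conjSU g (fieldSU τ s) = s')
    exact hs.symm

omit [Finite F] in
theorem innerDiag_iff (β : Cfsg.PSU n F q ≃* Cfsg.PSU n F q) :
    Cfsg.IsInnerDiagonalAutPSU β ↔ ∃ g : Cfsg.GU n F q, β = δ g := by
  constructor
  · rintro ⟨g, hg, h⟩
    refine ⟨⟨g, hg⟩, MulEquiv.ext fun x => ?_⟩
    obtain ⟨s, rfl⟩ := π_surjective x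
    exact h s (conjSU ⟨g, hg⟩ s) rfl
  · rintro ⟨g, rfl⟩
    refine ⟨g.1, g.2, fun s s' hs => ?_⟩
    refine congrArg (π n F q) (Subtype.ext (Subtype.ext ?_) : conjSU g s = s')
    exact hs.symm

omit [Finite F] in
theorem fieldAut_iff (τ : F ≃+* F) (β : Cfsg.PSU n F q ≃* Cfsg.PSU n F q) :
    Cfsg.IsFieldAutPSUOf τ β ↔ β = fld τ := by
  constructor
  · intro h
    refine MulEquiv.ext fun x => ?_
    obtain ⟨s, rfl⟩ := π_surjective x
    exact h s (fieldSU τ s) rfl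
  · rintro rfl s s' hs
    refine congrArg (π n F q) (Subtype.ext (Subtype.ext ?_) : fieldSU τ s = s')
    exact hs.symm

omit [Finite F] in
/-- The entrywise action of a field automorphism on `GU`. -/
theorem map_mem_GU (τ : F ≃+* F) (g : Cfsg.GU n F q) :
    Matrix.GeneralLinearGroup.map (τ : F →+* F) g.1 ∈ Cfsg.GU n F q := by
  intro x y
  have hv : ∀ z : Fin n → F, (g.1.1.map τ) *ᵥ z = τ ∘ (g.1.1 *ᵥ (τ.symm ∘ z)) := fun z => by
    funext i; simp [mulVec, dotProduct, map_sum]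
  have hh : ∀ u v : Fin n → F,
      Cfsg.hermForm n F q (τ ∘ u) (τ ∘ v) = τ (Cfsg.hermForm n F q u v) := fun u v => by
    simp [Cfsg.hermForm, map_sum, map_pow]
  show Cfsg.hermForm n F q ((g.1.1.map τ) *ᵥ x) ((g.1.1.map τ) *ᵥ y) = _
  rw [hv, hv, hh]
  have := g.2 (τ.symm ∘ x) (τ.symm ∘ y)
  rw [show Cfsg.hermForm n F q (g.1.1 *ᵥ (τ.symm ∘ x)) (g.1.1 *ᵥ (τ.symm ∘ y)) = _ from this, ← hh]
  simp [Function.comp_def]

omit [Finite F] in
/-- Field automorphisms normalise the image of `GU`. -/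
theorem fld_δ (τ : F ≃+* F) (g : Cfsg.GU n F q) :
    fld τ * δ g = δ ⟨_, map_mem_GU τ g⟩ * fld τ := by
  refine MulEquiv.ext fun x => ?_
  obtain ⟨s, rfl⟩ := π_surjective x
  refine congrArg (π n F q) (Subtype.ext (Subtype.ext ?_) :
    fieldSU τ (conjSU g s) = conjSU ⟨_, map_mem_GU τ g⟩ (fieldSU τ s))
  show (g.1.1 * s.1.1 * (g.1⁻¹).1).map τ = _
  rw [Matrix.map_mul, Matrix.map_mul]
  rfl

end CfsgLib.KnownB.PSUAut
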