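import Cfsg.Agent.Lib.KnownB.PSUAut.Main

/-!
`Aut PSU_n(q)`: reduction to automorphisms fixing two transvection groups pointwise.
-/

set_option autoImplicit false

namespace CfsgLib.KnownB.PSUAut

open Matrix CfsgLib.Classical CfsgLib.Classical.Unitary

variable {n : ℕ} {F : Type*} [Field F] [Finite F] {q p : ℕ} {σ : F →+* F}

/-- A hyperbolic pair exists. -/
theorem Setting.exists_pair (S : Setting F σ p q n) (hn : 3 ≤ n) :
    ∃ e f : Fin n → F, HPair σ e f := by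
  obtain ⟨u, hu0, huu, -⟩ := exists_std_iso S.card S.frob hn
  exact ⟨u, exists_hpair S.frob hu0 huu⟩

/-- After composing with a conjugation an automorphism fixes two transvection groups setwise. -/
theorem Setting.normal_points (S : Setting F σ p q n) {e f : Fin n → F} (H : HPair σ e f)
    (α : MulAut (Cfsg.PSU n F q)) :
    ∃ g : Cfsg.GU n F q, (∀ x ∈ RR σ n q e S.frob, (δ g * α) x ∈ RR σ n q e S.frob) ∧
      (∀ x ∈ TT σ n q e S.frob, (δ g * α) x ∈ TT σ n q e S.frob) ∧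
      (∀ x ∈ TT σ n q f S.frob, (δ g * α) x ∈ TT σ n q f S.frob) := by
  obtain ⟨v, hv0, hvv, hvR, hvT⟩ := S.image_point α H.ne_zero H.ee
  obtain ⟨w, hw0, hww, -, hwT⟩ := S.image_point α H.symm.ne_zero H.ff
  obtain ⟨k, hk0, hk⟩ := exists_skew S.frob
  have hvw : uh σ v w ≠ 0 := by
    intro h0
    obtain ⟨c, hv', hc, hce⟩ : α (π n F q (utv S.frob e k H.ee hk)) ∈ TT σ n q v S.frob :=
      hvT ▸ ⟨_, ⟨k, H.ee, hk, rfl⟩, rfl⟩
    obtain ⟨c', hw', hc', hce'⟩ : α (π n F q (utv S.frob f k H.ff hk)) ∈ TT σ n q w S.frob :=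
      hwT ▸ ⟨_, ⟨k, H.ff, hk, rfl⟩, rfl⟩
    have hcomm : utv S.frob v c hv' hc * utv S.frob w c' hw' hc' =
        utv S.frob w c' hw' hc' * utv S.frob v c hv' hc := by
      refine su_ext fun x => ?_
      simp only [su_mul_mulVec, utv_mulVec, uh_add_left, uh_smul_left, h0, S.frob.swap_zero h0,
        mul_zero, add_zero]
      abel
    have h1 : α (π n F q (utv S.frob e k H.ee hk * utv S.frob f k H.ff hk)) =
        α (π n F q (utv S.frob f k H.ff hk * utv S.frob e k H.ee hk)) := by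
      rw [map_mul, map_mul, map_mul, map_mul, hce, hce', ← map_mul, ← map_mul, hcomm]
    have h2 := α.injective h1
    rw [map_mul, map_mul] at h2
    obtain ⟨a, -, ha⟩ := (S.centralizer_single H.ne_zero H.ee hk hk0
      (utv S.frob f k H.ff hk)).1 h2.symm
    rw [utv_mulVec, H.ef, mul_one] at ha
    have h3 := congrArg (fun z => uh σ z e) ha
    simp only [uh_add_left, uh_smul_left, H.ee, H.fe, mul_one, mul_zero, zero_add] at h3
    exact hk0 h3
  set a := (σ (uh σ v w))⁻¹ with ha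
  have ha0 : a ≠ 0 := inv_ne_zero ((map_ne_zero σ).2 hvw)
  have H' : HPair σ v (a • w) := ⟨hvv, by rw [uh_smul_left, uh_smul_right, hww]; simp,
    by rw [uh_smul_right, ha, map_inv₀, S.frob.invol, inv_mul_cancel₀ hvw],
    by rw [uh_smul_left, ha, ← S.frob.symm v w, inv_mul_cancel₀ ((map_ne_zero σ).2 hvw)]⟩
  obtain ⟨g, hg, hgv⟩ := exists_gu_map S.frob ![v, a • w] ![e, f] (pair_li H'.ee H'.ef)
    (pair_li H.ee H.ef) fun i j => by
      fin_cases i <;> fin_cases j <;> simp [H.ee, H.ef, H.ff, H.fe, H'.ee, H'.ef, H'.ff, H'.fe]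
  refine ⟨⟨g, hg⟩, fun x hx => ?_, fun x hx => ?_, fun x hx => ?_⟩
  all_goals rw [MulAut.mul_apply, show δ (⟨g, hg⟩ : Cfsg.GU n F q) =
    δ (⟨g, hg⟩ : Cfsg.GU n F q) * fld (1 : F ≃+* F) by rw [map_one, mul_one]]
  · obtain ⟨f', Hv⟩ := exists_hpair S.frob hv0 hvv
    have h1 := semi_map_RR S.frob Hv ⟨g, hg⟩ 1 (x := α x) (hvR ▸ ⟨x, hx, rfl⟩)
    rwa [show semi (⟨g, hg⟩ : Cfsg.GU n F q) 1 v = e from hgv 0] at h1
  · have h1 := semi_map_TT S.frob v ⟨g, hg⟩ 1 (x := α x) (hvT ▸ ⟨x, hx, rfl⟩)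
    rwa [show semi (⟨g, hg⟩ : Cfsg.GU n F q) 1 v = e from hgv 0] at h1
  · have h1 := semi_map_TT S.frob (a • w) ⟨g, hg⟩ 1 (x := α x)
      (by rw [TT_smul S.frob w ha0 hww]; exact hwT ▸ ⟨x, hx, rfl⟩)
    rwa [show semi (⟨g, hg⟩ : Cfsg.GU n F q) 1 (a • w) = f from hgv 1] at h1

/-- The relations between the actions on the two transvection groups. -/
theorem Setting.rel (S : Setting F σ p q n) {e f : Fin n → F} (H : HPair σ e f)
    (α : MulAut (Cfsg.PSU n F q)) {φ ψ : F → F}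
    (hφ : ∀ (c : F) (hc : c + σ c = 0), ∃ hc' : φ c + σ (φ c) = 0,
      α (π n F q (utv S.frob e c H.ee hc)) = π n F q (utv S.frob e (φ c) H.ee hc'))
    (hψ : ∀ (c : F) (hc : c + σ c = 0), ∃ hc' : ψ c + σ (ψ c) = 0,
      α (π n F q (utv S.frob f c H.ff hc)) = π n F q (utv S.frob f (ψ c) H.ff hc'))
    {c y : F} (hc : c + σ c = 0) (hc0 : c ≠ 0) (hy : y + σ y = 0) (hy0 : y ≠ 0) :
    ψ (-c⁻¹) * φ c = -1 ∧ φ (-(c ^ 2) * y) = -(φ c ^ 2) * ψ y := by
  have hσc : σ c = -c := eq_neg_of_add_eq_zero_right hc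
  have hzero : ∀ (β : MulAut (Cfsg.PSU n F q)) (b b' : F) (hb : b + σ b = 0) (hb' : b' + σ b' = 0)
      (v : Fin n → F) (hv : uh σ v v = 0) (hv0 : v ≠ 0),
      β (π n F q (utv S.frob v b hv hb)) = π n F q (utv S.frob v b' hv hb') → b ≠ 0 → b' ≠ 0 := by
    intro β b b' hb hb' v hv hv0 he hb0 h0
    subst h0
    rw [utv_zero S.frob v hv hb', map_one, MulEquiv.map_eq_one_iff] at he
    have h1 := S.pel_ext (S.pEl_utv v b hv hb) (S.pEl_utv v 0 hv hb')
      (by rw [he, utv_zero, map_one])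
    exact hb0 (utv_eq_scalar S.frob hv hb hb' hv0 h1)
  obtain ⟨hC, eC⟩ := hφ c hc
  obtain ⟨hD, eD⟩ := hψ (-c⁻¹) (inv_skew hc)
  obtain ⟨hY, eY⟩ := hψ y hy
  have hY0 : ψ y ≠ 0 := hzero α _ _ hy hY f H.ff H.symm.ne_zero eY hy0
  set C := φ c with hCdef
  set D := ψ (-c⁻¹) with hDdef
  set A := utv S.frob e C H.ee hC * utv S.frob f D H.ff hD * utv S.frob e C H.ee hC with hA
  have hy' : -(c ^ 2) * y + σ (-(c ^ 2) * y) = 0 := by
    rw [map_mul, map_neg, map_pow, hσc]; linear_combination (-c ^ 2) * hy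
  obtain ⟨hY', eY'⟩ := hφ _ hy'
  have hgrp : swapEl S.frob H c hc * utv S.frob f y H.ff hy * (swapEl S.frob H c hc)⁻¹ =
      utv S.frob e (-(c ^ 2) * y) H.ee hy' := by
    rw [su_conj_utv, utv_congr S.frob (swapEl_f S.frob H hc hc0) rfl,
      utv_smul S.frob e c y _ H.ee hy (norm_skew S.frob c hy)]
    exact utv_congr S.frob rfl (by rw [hσc]; ring) _ _
  have h1 := congrArg (fun t => α (π n F q t)) hgrp
  simp only [swapEl, map_mul, map_inv, eC, eD, eY, eY'] at h1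
  simp only [← map_mul, ← map_inv, ← hA] at h1
  rw [su_conj_utv] at h1
  have h2 := S.pel_ext (S.pEl_utv _ _ _ _) (S.pEl_utv _ _ _ _) h1
  have hAf : A.1.1 *ᵥ f = (C + C * (1 + D * C)) • e + (1 + D * C) • f := by
    simp only [hA, su_mul_mulVec, utv_mulVec, uh_add_left, uh_smul_left, H.ee, H.ef, H.ff, H.fe]
    module
  obtain ⟨a, ha⟩ := utv_eq_point S.frob _ _ _ _
    (fun h0 => H.symm.ne_zero (by rw [← su_inv_mulVec A f, h0, mulVec_zero])) hY0 h2
  have hDC : D * C = -1 := by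
    have h3 := congrArg (fun z => uh σ z e) (hAf.symm.trans ha)
    simp only [uh_add_left, uh_smul_left, H.ee, H.fe, mul_one, mul_zero, zero_add] at h3
    linear_combination h3
  refine ⟨hDC, ?_⟩
  have hAf' : A.1.1 *ᵥ f = C • e := by rw [hAf, hDC]; module
  rw [utv_congr S.frob hAf' rfl, utv_smul S.frob e C (ψ y) _ H.ee hY (norm_skew S.frob C hY)] at h2
  rw [← utv_eq_scalar S.frob H.ee _ _ H.ne_zero h2, eq_neg_of_add_eq_zero_right hC]
  ring

/-- An additive map of the fixed field with `τ(a²/b) = τ(a)²/τ(b)` is a power of the Frobenius. -/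
theorem exists_frobenius_pow [CharP F p] (hp : p.Prime) (σ : F →+* F) (τ : F → F)
    (hmap : ∀ a, σ a = a → σ (τ a) = τ a) (hone : τ 1 = 1)
    (hadd : ∀ a b, σ a = a → σ b = b → τ (a + b) = τ a + τ b)
    (hne : ∀ a, σ a = a → a ≠ 0 → τ a ≠ 0)
    (hdiv : ∀ a b, σ a = a → σ b = b → a ≠ 0 → b ≠ 0 → τ (a ^ 2 / b) = τ a ^ 2 / τ b) :
    ∃ i : ℕ, ∀ a, σ a = a → τ a = a ^ p ^ i := by
  haveI := Fact.mk hp
  have h1 : σ 1 = 1 := map_one σ
  have h0 : τ 0 = 0 := by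
    have h := hadd 0 0 (map_zero σ) (map_zero σ)
    rw [add_zero] at h
    exact left_eq_add.1 h
  have hinv : ∀ b, σ b = b → b ≠ 0 → τ b⁻¹ = (τ b)⁻¹ := fun b hb hb0 => by
    have h := hdiv 1 b h1 hb one_ne_zero hb0
    rwa [one_pow, one_div, hone, one_pow, one_div] at h
  have hsq : ∀ a b, σ a = a → σ b = b → τ (a ^ 2 * b) = τ a ^ 2 * τ b := fun a b ha hb => by
    rcases eq_or_ne a 0 with rfl | ha0
    · simp [h0]
    rcases eq_or_ne b 0 with rfl | hb0
    · simp [h0]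
    have h := hdiv a b⁻¹ ha (by rw [map_inv₀, hb]) ha0 (inv_ne_zero hb0)
    rwa [hinv b hb hb0, div_inv_eq_mul, div_inv_eq_mul] at h
  have hmul : ∀ a b, σ a = a → σ b = b → τ (a * b) = τ a * τ b := by
    intro a b ha hb
    rcases eq_or_ne (2 : F) 0 with h2 | h2
    · have : CharP F 2 := CharTwo.of_one_ne_zero_of_two_eq_zero one_ne_zero h2
      have := Fintype.ofFinite F
      obtain ⟨r, rfl⟩ := FiniteField.isSquare_of_char_two (ringChar.eq F 2) a
      have hr : σ r = r := by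
        rw [map_mul] at ha
        refine sub_eq_zero.1 (mul_self_eq_zero.1 ?_)
        linear_combination ha + (r * r - σ r * r) * h2
      rw [← pow_two, hsq r b hr hb]
      have h := hsq r 1 hr h1
      rw [mul_one, hone, mul_one] at h
      rw [h]
    · have hab : σ (a * b) = a * b := by rw [map_mul, ha, hb]
      have ha2 : σ (a ^ 2 * b) = a ^ 2 * b := by rw [map_mul, map_pow, ha, hb]
      have e1 := hsq (a + 1) b (by rw [map_add, ha, h1]) hb
      rw [show (a + 1) ^ 2 * b = a ^ 2 * b + (a * b + a * b) + b by ring,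
        hadd _ _ (by rw [map_add, map_add, ha2, hab]) hb, hadd _ _ ha2 (by rw [map_add, hab]),
        hadd _ _ hab hab, hsq a b ha hb, hadd a 1 ha h1, hone] at e1
      exact mul_left_cancel₀ h2 (by linear_combination e1)
  let F₀ : Subfield F := σ.eqLocusField (RingHom.id F)
  let τ₀ : F₀ →+* F₀ :=
    { toFun := fun x => ⟨τ x.1, hmap _ x.2⟩
      map_one' := Subtype.ext hone
      map_mul' := fun x y => Subtype.ext (hmul _ _ x.2 y.2)
      map_zero' := Subtype.ext h0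
      map_add' := fun x y => Subtype.ext (hadd _ _ x.2 y.2) }
  haveI : CharP F₀ p := (RingHom.charP_iff F₀.subtype Subtype.val_injective p).2 inferInstance
  letI : Algebra (ZMod p) F₀ := ZMod.algebra F₀ p
  have : Module.Finite (ZMod p) F₀ := Module.Finite.of_finite
  let e : F₀ ≃+* F₀ := RingEquiv.ofBijective τ₀
    ⟨τ₀.injective, Finite.injective_iff_surjective.1 τ₀.injective⟩
  obtain ⟨j, hi⟩ := (FiniteField.bijective_frobeniusAlgEquivOfAlgebraic_pow (ZMod p) F₀).2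
    (PSLAut.galEquiv (p := p) e)
  refine ⟨j.1, fun a ha => ?_⟩
  have h := DFunLike.congr_fun hi ⟨a, ha⟩
  simp only [AlgEquiv.coe_pow, FiniteField.coe_frobeniusAlgEquivOfAlgebraic_iterate, ZMod.card] at h
  exact (congrArg Subtype.val h).symm

/-- The decomposition of an automorphism of `PSU_n(q)`. -/
theorem Setting.decomp (S : Setting F σ p q n) (hn : 3 ≤ n) (h32 : n = 3 → 3 ≤ q)
    (α : MulAut (Cfsg.PSU n F q)) :
    ∃ (g : Cfsg.GU n F q) (τ : F ≃+* F), α = δ g * fld τ := by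
  have := S.char
  haveI := Fact.mk S.prime
  obtain ⟨e, f, H⟩ := S.exists_pair hn
  obtain ⟨g₁, hR, hTe, hTf⟩ := S.normal_points H α
  set α₁ := δ g₁ * α with hα₁
  have key : ∀ (v : Fin n → F) (hv : uh σ v v = 0),
      (∀ x ∈ TT σ n q v S.frob, α₁ x ∈ TT σ n q v S.frob) → ∀ c : F, ∃ c' : F, ∀ hc : c + σ c = 0,
        ∃ hc' : c' + σ c' = 0,
          α₁ (π n F q (utv S.frob v c hv hc)) = π n F q (utv S.frob v c' hv hc') := by
    intro v hv hT c
    by_cases hc : c + σ c = 0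
    · obtain ⟨c', hv', hc', hce⟩ := hT _ ⟨c, hv, hc, rfl⟩
      exact ⟨c', fun _ => ⟨hc', hce⟩⟩
    · exact ⟨0, fun h => absurd h hc⟩
  choose φ hφ using key e H.ee hTe
  choose ψ hψ using key f H.ff hTf
  obtain ⟨k, hk0, hk⟩ := exists_skew S.frob
  have hσk : σ k = -k := eq_neg_of_add_eq_zero_right hk
  have hskew : ∀ {a : F}, σ a = a → k * a + σ (k * a) = 0 := fun ha => by
    rw [map_mul, ha, hσk]; ring
  have hφinj : ∀ c c', c + σ c = 0 → c' + σ c' = 0 → φ c = φ c' → c = c' := by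
    intro c c' hc hc' he
    obtain ⟨h1, e1⟩ := hφ c hc
    obtain ⟨h2, e2⟩ := hφ c' hc'
    rw [utv_congr S.frob rfl he H.ee h1, ← e2] at e1
    exact utv_eq_scalar S.frob H.ee hc hc' H.ne_zero
      (S.pel_ext (S.pEl_utv _ _ _ _) (S.pEl_utv _ _ _ _) (α₁.injective e1))
  have hφadd : ∀ c c', c + σ c = 0 → c' + σ c' = 0 → φ (c + c') = φ c + φ c' := by
    intro c c' hc hc'
    obtain ⟨h1, e1⟩ := hφ c hc
    obtain ⟨h2, e2⟩ := hφ c' hc'
    obtain ⟨h3, e3⟩ := hφ (c + c') (add_skew hc hc')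
    rw [← utv_mul S.frob e H.ee hc hc', map_mul, map_mul, e1, e2, ← map_mul,
      utv_mul S.frob e H.ee h1 h2] at e3
    exact (utv_eq_scalar S.frob H.ee _ _ H.ne_zero
      (S.pel_ext (S.pEl_utv _ _ _ _) (S.pEl_utv _ _ _ _) e3)).symm
  have hφ0 : φ 0 = 0 := by
    have h := hφadd 0 0 (by simp) (by simp)
    rw [add_zero] at h
    exact left_eq_add.1 h
  have hφne : ∀ c, c + σ c = 0 → c ≠ 0 → φ c ≠ 0 := fun c hc hc0 h0 =>
    hc0 (hφinj c 0 hc (by simp) (by rw [h0, hφ0]))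
  set K := φ k with hK
  have hKs : K + σ K = 0 := (hφ k hk).1
  have hK0 : K ≠ 0 := hφne k hk hk0
  obtain ⟨i, hi⟩ := exists_frobenius_pow S.prime σ (fun a => φ (k * a) / K)
    (fun a ha => by
      rw [map_div₀, eq_neg_of_add_eq_zero_right hKs,
        eq_neg_of_add_eq_zero_right (hφ _ (hskew ha)).1, neg_div_neg_eq])
    (by rw [mul_one, ← hK, div_self hK0])
    (fun a b ha hb => by rw [mul_add, hφadd _ _ (hskew ha) (hskew hb), add_div])
    (fun a ha ha0 => div_ne_zero (hφne _ (hskew ha) (mul_ne_zero hk0 ha0)) hK0)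
    (fun a b ha hb ha0 hb0 => by
      have hka := hskew ha
      have hkb := hskew hb
      have hy : -(k * b)⁻¹ + σ (-(k * b)⁻¹) = 0 := inv_skew hkb
      have r1 := (S.rel H α₁ hφ hψ hka (mul_ne_zero hk0 ha0) hy
        (neg_ne_zero.2 (inv_ne_zero (mul_ne_zero hk0 hb0)))).2
      have r2 := (S.rel H α₁ hφ hψ hkb (mul_ne_zero hk0 hb0) hy
        (neg_ne_zero.2 (inv_ne_zero (mul_ne_zero hk0 hb0)))).1
      have hB := hφne _ hkb (mul_ne_zero hk0 hb0)
      have r2' : ψ (-(k * b)⁻¹) = -1 / φ (k * b) := by rw [eq_div_iff hB]; exact r2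
      rw [show -((k * a) ^ 2) * -(k * b)⁻¹ = k * (a ^ 2 / b) by field_simp, r2'] at r1
      rw [r1]
      field_simp)
  let τ : F ≃+* F := iterateFrobeniusEquiv F p i
  have hτ : ∀ x, τ x = x ^ p ^ i := fun x => iterateFrobeniusEquiv_def F p i x
  have hτk : τ k + σ (τ k) = 0 := skew_map S.frob τ hk
  have hτk0 : τ k ≠ 0 := fun h0 => hk0 (τ.injective (by rw [h0, map_zero]))
  obtain ⟨a, ha⟩ := exists_pow_succ_eq S.card (c := K / τ k) (by
    rw [← S.frob.pow, map_div₀, eq_neg_of_add_eq_zero_right hKs, eq_neg_of_add_eq_zero_right hτk,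
      neg_div_neg_eq])
  rw [pow_succ', ← S.frob.pow] at ha
  have ha0 : a ≠ 0 := fun h0 => div_ne_zero hK0 hτk0 (by rw [← ha, h0, zero_mul])
  obtain ⟨g, hge, hgf⟩ := exists_gu_pair S.frob H τ ha0
  set β : MulAut (Cfsg.PSU n F q) := δ g * fld τ with hβ
  set α₂ := β⁻¹ * α₁ with hα₂
  have fixE : ∀ (c : F) (hv : uh σ e e = 0) (hc : c + σ c = 0),
      α₂ (π n F q (utv S.frob e c hv hc)) = π n F q (utv S.frob e c hv hc) := by
    intro c hv hc
    refine β.injective ?_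
    show β (β⁻¹ (α₁ _)) = β _
    rw [MulAut.apply_inv_self, hβ, S.semi_fix_e hv g τ hge c hc]
    obtain ⟨h1, e1⟩ := hφ c hc
    rw [e1]
    refine congrArg _ (utv_congr S.frob rfl ?_ _ _)
    have hck : σ (c / k) = c / k := by
      rw [map_div₀, hσk, eq_neg_of_add_eq_zero_right hc, neg_div_neg_eq]
    have h2 : φ (k * (c / k)) / K = (c / k) ^ p ^ i := hi _ hck
    rw [mul_div_cancel₀ c hk0, ← hτ, map_div₀, div_eq_iff hK0] at h2
    rw [h2, ha]
    field_simp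
  have hTf2 : ∀ x ∈ TT σ n q f S.frob, α₂ x ∈ TT σ n q f S.frob := by
    intro x hx
    obtain ⟨c, hv, hc, hce⟩ := hTf x hx
    obtain ⟨b, hb⟩ : ∃ b, τ b = a * σ a * c := τ.surjective _
    have hb' : b + σ b = 0 := τ.injective (by
      rw [map_add, ← commute_frob S.frob, hb, map_zero]; exact norm_skew S.frob a hc)
    refine ⟨b, H.ff, hb', β.injective ?_⟩
    show β (β⁻¹ (α₁ _)) = β _
    rw [MulAut.apply_inv_self, hce, hβ, S.semi_fix_e H.ff g τ hgf b hb']
    refine congrArg _ (utv_congr S.frob rfl ?_ _ _)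
    rw [hb, map_inv₀, S.frob.invol]
    have hσa : σ a ≠ 0 := (map_ne_zero σ).2 ha0
    field_simp
  have fixF : ∀ (c : F) (hv : uh σ f f = 0) (hc : c + σ c = 0),
      α₂ (π n F q (utv S.frob f c hv hc)) = π n F q (utv S.frob f c hv hc) := by
    intro c hv hc
    rcases eq_or_ne c 0 with rfl | hc0
    · rw [utv_zero S.frob f hv hc, map_one, map_one]
    have key2 : ∀ b : F, ∃ b' : F, ∀ hb : b + σ b = 0, ∃ hb' : b' + σ b' = 0,
        α₂ (π n F q (utv S.frob f b H.ff hb)) = π n F q (utv S.frob f b' H.ff hb') := by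
      intro b
      by_cases hb : b + σ b = 0
      · obtain ⟨b', hv', hb', hbe⟩ := hTf2 _ ⟨b, H.ff, hb, rfl⟩
        exact ⟨b', fun _ => ⟨hb', hbe⟩⟩
      · exact ⟨0, fun h => absurd h hb⟩
    choose ψ₂ hψ₂ using key2
    have hc' : -c⁻¹ + σ (-c⁻¹) = 0 := inv_skew hc
    have r := (S.rel H α₂ (φ := id) (ψ := ψ₂) (fun b hb => ⟨hb, fixE b H.ee hb⟩) hψ₂ hc'
      (neg_ne_zero.2 (inv_ne_zero hc0)) hc hc0).1
    rw [show -(-c⁻¹)⁻¹ = c by rw [inv_neg, inv_inv, neg_neg], id_eq] at r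
    obtain ⟨h1, e1⟩ := hψ₂ c hc
    rw [e1]
    refine congrArg _ (utv_congr S.frob rfl ?_ _ _)
    field_simp at r
    linear_combination -r
  have hR2 : ∀ x ∈ RR σ n q e S.frob, α₂ x ∈ RR σ n q e S.frob := by
    intro x hx
    have hsub : (RR σ n q e S.frob).map β.toMonoidHom ≤ RR σ n q e S.frob := by
      rintro _ ⟨y, hy, rfl⟩
      have h1 := semi_map_RR S.frob H g τ hy
      rw [hge, RR_smul S.frob e ha0] at h1
      exact h1
    have heq : (RR σ n q e S.frob).map β.toMonoidHom = RR σ n q e S.frob :=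
      Subgroup.eq_of_le_of_card_ge hsub
        (Subgroup.card_map_of_injective β.injective).ge
    have hx' := hR x hx
    rw [← heq] at hx'
    obtain ⟨y, hy, hy'⟩ := hx'
    show β⁻¹ (α₁ x) ∈ _
    rw [← hy']
    show β⁻¹ (β y) ∈ _
    rwa [MulAut.inv_apply_self]
  obtain ⟨g₂, τ₂, hg₂⟩ := S.fixed_case hn h32 H α₂ fixE fixF hR2
  refine ⟨g₁⁻¹ * g * ⟨_, map_mem_GU τ g₂⟩, τ * τ₂, ?_⟩
  calc α = (δ g₁)⁻¹ * (β * α₂) := by rw [hα₂, hα₁]; group
    _ = (δ g₁)⁻¹ * (δ g * ((fld τ * δ g₂) * fld τ₂)) := by rw [hg₂, hβ]; group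
    _ = _ := by rw [fld_δ, map_mul δ, map_mul δ, map_inv δ, map_mul fld]; group

end CfsgLib.KnownB.PSUAut
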