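import Cfsg.Agent.Lib.KnownB.PSUAut.Act

/-!
`PSU_n(q)`: automorphisms fixing two transvection groups pointwise.
-/

set_option autoImplicit false

namespace CfsgLib.KnownB.PSUAut

open Matrix CfsgLib.Classical CfsgLib.Classical.Unitary

variable {n : ℕ} {F : Type*} [Field F] {q p : ℕ} {σ : F →+* F}

/-- `α` fixes both transvection groups pointwise and acts on the root group at `e` through `L`, `d`. -/
structure RootData (h : UFrob σ q) {e f : Fin n → F} (H : HPair σ e f)
    (α : MulAut (Cfsg.PSU n F q)) (L : (Fin n → F) → Fin n → F) (d : (Fin n → F) → F) : Prop where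
  fixE : ∀ (c : F) (hv : uh σ e e = 0) (hc : c + σ c = 0),
    α (π n F q (utv h e c hv hc)) = π n F q (utv h e c hv hc)
  fixF : ∀ (c : F) (hv : uh σ f f = 0) (hc : c + σ c = 0),
    α (π n F q (utv h f c hv hc)) = π n F q (utv h f c hv hc)
  spec : ∀ (x : Fin n → F) (c : F) (hx : inW σ e f x) (hc : c + σ c + uh σ x x = 0),
    ∃ (hy : inW σ e f (L x)) (hc' : c + d x + σ (c + d x) + uh σ (L x) (L x) = 0),
      α (π n F q (uel h e x c H.ee hx.1 hc)) = π n F q (uel h e (L x) (c + d x) H.ee hy.1 hc')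

variable [Finite F]

/-- An automorphism fixing the transvection groups and stabilising the root group has data. -/
theorem Setting.exists_data (S : Setting F σ p q n) {e f : Fin n → F} (H : HPair σ e f)
    (α : MulAut (Cfsg.PSU n F q))
    (fixE : ∀ (c : F) (hv : uh σ e e = 0) (hc : c + σ c = 0),
      α (π n F q (utv S.frob e c hv hc)) = π n F q (utv S.frob e c hv hc))
    (fixF : ∀ (c : F) (hv : uh σ f f = 0) (hc : c + σ c = 0),
      α (π n F q (utv S.frob f c hv hc)) = π n F q (utv S.frob f c hv hc))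
    (hR : ∀ x ∈ RR σ n q e S.frob, α x ∈ RR σ n q e S.frob) :
    ∃ L d, RootData S.frob H α L d := by
  have key : ∀ x : Fin n → F, ∃ (y : Fin n → F) (dd : F), ∀ (hx : inW σ e f x) (c : F)
      (hc : c + σ c + uh σ x x = 0), ∃ (hy : inW σ e f y)
      (hc' : c + dd + σ (c + dd) + uh σ y y = 0),
      α (π n F q (uel S.frob e x c H.ee hx.1 hc)) =
        π n F q (uel S.frob e y (c + dd) H.ee hy.1 hc') := by
    intro x
    by_cases hx : inW σ e f x
    · obtain ⟨c₀, hc₀⟩ := exists_uel_param S.frob x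
      obtain ⟨u, hu, hαu⟩ := hR _ ⟨_, uel_mem_Ue S.frob e x c₀ H.ee hx.1 hc₀, rfl⟩
      obtain ⟨y, c₁, hy, hc₁, rfl⟩ := exists_uel S.frob H hu
      refine ⟨y, c₁ - c₀, fun hx c hc => ⟨hy, ?_, ?_⟩⟩
      · simp only [map_add, map_sub]; linear_combination hc + hc₁ - hc₀
      · have hsk : c - c₀ + σ (c - c₀) = 0 := by rw [map_sub]; linear_combination hc - hc₀
        have h0 : c - c₀ + σ (c - c₀) + uh σ (0 : Fin n → F) 0 = 0 := by
          rw [uh_zero_left, add_zero]; exact hsk
        have hprod : ∀ (z : Fin n → F) (a : F) (hz : uh σ z e = 0) (ha : a + σ a + uh σ z z = 0)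
            (ha' : a + (c - c₀) + σ (a + (c - c₀)) + uh σ z z = 0),
            uel S.frob e z (a + (c - c₀)) H.ee hz ha' =
              uel S.frob e z a H.ee hz ha * utv S.frob e (c - c₀) H.ee hsk := by
          intro z a hz ha ha'
          rw [← uel_zero S.frob e (c - c₀) H.ee (uh_zero_left e) h0,
            uel_mul S.frob H.ee hz (uh_zero_left e) ha h0]
          exact uel_congr S.frob (add_zero z).symm (by rw [uh_zero_left, sub_zero]) _ _ _
        have e1 := hprod x c₀ hx.1 hc₀ (by rw [map_add, map_sub]; linear_combination hc)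
        rw [uel_congr S.frob rfl (show c = c₀ + (c - c₀) by ring) H.ee hx.1 hc, e1, map_mul, map_mul,
          fixE, ← show π n F q (uel S.frob e y c₁ H.ee hy.1 hc₁) =
            α (π n F q (uel S.frob e x c₀ H.ee hx.1 hc₀)) from hαu, ← map_mul]
        refine congrArg _ ?_
        rw [← hprod y c₁ hy.1 hc₁ (by rw [map_add, map_sub]; linear_combination hc + hc₁ - hc₀)]
        exact uel_congr S.frob rfl (by ring) _ _ _
    · exact ⟨0, 0, fun hx' => absurd hx' hx⟩
  choose L d hLd using key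
  exact ⟨L, d, fixE, fixF, fun x c hx hc => hLd x hx c hc⟩

theorem exists_param_pair (h : UFrob σ q) (x : Fin n → F) {k : F} (hk0 : k ≠ 0) (hk : k + σ k = 0) :
    ∃ c : F, (c + σ c + uh σ x x = 0) ∧ (c + k + σ (c + k) + uh σ x x = 0) := by
  obtain ⟨c, hc⟩ := exists_uel_param h x
  exact ⟨c, hc, by rw [map_add]; linear_combination hc + hk⟩

namespace RootData

variable (S : Setting F σ p q n) {e f : Fin n → F} {H : HPair σ e f}
  {α : MulAut (Cfsg.PSU n F q)} {L : (Fin n → F) → Fin n → F} {d : (Fin n → F) → F}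

theorem mem (D : RootData S.frob H α L d) {x : Fin n → F} (hx : inW σ e f x) :
    inW σ e f (L x) := by
  obtain ⟨c, hc⟩ := exists_uel_param S.frob x
  exact (D.spec x c hx hc).1

theorem trace_eq (D : RootData S.frob H α L d) {x : Fin n → F} (hx : inW σ e f x) :
    d x + σ (d x) + uh σ (L x) (L x) = uh σ x x := by
  obtain ⟨c, hc⟩ := exists_uel_param S.frob x
  obtain ⟨-, hc', -⟩ := D.spec x c hx hc
  rw [map_add] at hc'
  linear_combination hc' - hc

theorem add (D : RootData S.frob H α L d) {x y : Fin n → F} (hx : inW σ e f x)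
    (hy : inW σ e f y) :
    L (x + y) = L x + L y ∧ d (x + y) = d x + d y + uh σ y x - uh σ (L y) (L x) := by
  obtain ⟨a, ha⟩ := exists_uel_param S.frob x
  obtain ⟨b, hb⟩ := exists_uel_param S.frob y
  obtain ⟨hLx, ha', ex⟩ := D.spec x a hx ha
  obtain ⟨hLy, hb', ey⟩ := D.spec y b hy hb
  have hab : a + b - uh σ y x + σ (a + b - uh σ y x) + uh σ (x + y) (x + y) = 0 := by
    simp only [map_sub, map_add, uh_add_left, uh_add_right, S.frob.symm]
    linear_combination ha + hb
  obtain ⟨hL, hc', exy⟩ := D.spec (x + y) (a + b - uh σ y x) (hx.add hy) hab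
  rw [← uel_mul S.frob H.ee hx.1 hy.1 ha hb, map_mul, map_mul, ex, ey, ← map_mul,
    uel_mul S.frob H.ee hLx.1 hLy.1 ha' hb'] at exy
  obtain ⟨h1, h2⟩ := uel_inj S.frob H (hLx.add hLy) hL _ _
    (S.pel_ext (S.pEl_Ue (uel_mem_Ue _ _ _ _ _ _ _)) (S.pEl_Ue (uel_mem_Ue _ _ _ _ _ _ _)) exy)
  exact ⟨h1.symm, by linear_combination -h2⟩

theorem zero (D : RootData S.frob H α L d) : L 0 = 0 ∧ d 0 = 0 := by
  obtain ⟨h1, h2⟩ := (D.add S) (inW.zero (σ := σ) (e := e) (f := f)) inW.zero
  rw [add_zero] at h1 h2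
  have hL : L 0 = 0 := left_eq_add.1 h1
  rw [hL] at h2
  exact ⟨hL, by simp only [uh_zero_left] at h2; linear_combination -h2⟩

theorem eq_zero (D : RootData S.frob H α L d) {x : Fin n → F} (hx : inW σ e f x) (h0 : L x = 0) :
    x = 0 := by
  obtain ⟨c, hc⟩ := exists_uel_param S.frob x
  obtain ⟨hy, hc', hα⟩ := D.spec x c hx hc
  have hsk : c + d x + σ (c + d x) = 0 := by
    rw [h0, uh_zero_left, add_zero] at hc'
    exact hc'
  rw [uel_congr S.frob h0 rfl H.ee hy.1 hc', uel_zero, ← D.fixE _ H.ee hsk] at hα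
  have h1 := S.pel_ext (S.pEl_Ue (uel_mem_Ue _ _ _ _ _ _ _)) (S.pEl_utv _ _ _ _) (α.injective hα)
  rw [← uel_zero S.frob e _ H.ee (uh_zero_left e) (by rw [uh_zero_left, add_zero]; exact hsk)] at h1
  exact (uel_inj S.frob H hx inW.zero hc _ h1).1

/-- Elements built from the two fixed transvection groups are fixed. -/
theorem fix_swap (D : RootData S.frob H α L d) (c : F) (hc : c + σ c = 0) :
    α (π n F q (swapEl S.frob H c hc)) = π n F q (swapEl S.frob H c hc) := by
  rw [swapEl, map_mul, map_mul, map_mul, map_mul, D.fixE, D.fixF]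

/-- `L` commutes with the fixed field. -/
theorem smul_fixed (D : RootData S.frob H α L d) {a : F} (ha : σ a = a) {x : Fin n → F}
    (hx : inW σ e f x) : L (a • x) = a • L x := by
  rcases eq_or_ne a 0 with rfl | ha0
  · rw [zero_smul, zero_smul, (D.zero S).1]
  obtain ⟨k, hk0, hk⟩ := exists_skew S.frob
  have hka : k * a + σ (k * a) = 0 := by rw [map_mul, ha]; linear_combination a * hk
  set g := swapEl S.frob H (k * a) hka * (swapEl S.frob H k hk)⁻¹ with hg
  have hge : g.1.1 *ᵥ e = a • e := by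
    have h1 : (swapEl S.frob H k hk)⁻¹.1.1 *ᵥ e = k⁻¹ • f := by
      have h2 := congrArg (fun v => (swapEl S.frob H k hk)⁻¹.1.1 *ᵥ (k⁻¹ • v))
        (swapEl_f S.frob H hk hk0)
      simp only [mulVec_smul, su_inv_mulVec] at h2
      rw [inv_smul_smul₀ hk0] at h2
      exact h2.symm
    rw [hg, su_mul_mulVec, h1, mulVec_smul, swapEl_f S.frob H hka (mul_ne_zero hk0 ha0), smul_smul,
      inv_mul_cancel_left₀ hk0]
  have hgw : ∀ w, inW σ e f w → g.1.1 *ᵥ w = w := fun w hw => by
    have h1 : (swapEl S.frob H k hk)⁻¹.1.1 *ᵥ w = w := by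
      conv_lhs => rw [← swapEl_w S.frob H hk hw]
      rw [su_inv_mulVec]
    rw [hg, su_mul_mulVec, h1, swapEl_w S.frob H hka hw]
  have hgfix : α (π n F q g) = π n F q g := by
    rw [hg, map_mul, map_mul, map_inv, map_inv, (D.fix_swap S), (D.fix_swap S)]
  obtain ⟨c, hc⟩ := exists_uel_param S.frob x
  obtain ⟨hLx, hc', hα⟩ := D.spec x c hx hc
  have hconj : ∀ (z : Fin n → F) (b : F) (hz : inW σ e f z) (hb : b + σ b + uh σ z z = 0),
      g * uel S.frob e z b H.ee hz.1 hb * g⁻¹ =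
        uel S.frob e (σ a • z) (a * σ a * b) H.ee (hz.smul _).1 (smul_param S.frob a hb) := by
    intro z b hz hb
    rw [su_conj_uel, uel_congr S.frob (hgw z hz) rfl]
    have key : ∀ {e' : Fin n → F} (he' : e' = a • e) (h1 : uh σ e' e' = 0) (h2 : uh σ z e' = 0),
        uel S.frob e' z b h1 h2 hb =
          uel S.frob e (σ a • z) (a * σ a * b) H.ee (hz.smul _).1 (smul_param S.frob a hb) := by
      intro e' he' h1 h2
      subst he'
      exact uel_smul S.frob e z a b h1 H.ee h2 _ hb _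
    exact key hge _ _
  have h1 : α (π n F q (g * uel S.frob e x c H.ee hx.1 hc * g⁻¹)) =
      π n F q (g * uel S.frob e (L x) (c + d x) H.ee hLx.1 hc' * g⁻¹) := by
    simp only [map_mul, map_inv, hgfix, hα]
  rw [hconj _ _ hx hc, hconj _ _ hLx hc'] at h1
  obtain ⟨hy, hc'', hα'⟩ := D.spec _ (a * σ a * c) (hx.smul (σ a)) (smul_param S.frob a hc)
  rw [hα'] at h1
  have h2 := (uel_inj S.frob H hy (hLx.smul _) hc'' _
    (S.pel_ext (S.pEl_Ue (uel_mem_Ue _ _ _ _ _ _ _)) (S.pEl_Ue (uel_mem_Ue _ _ _ _ _ _ _)) h1)).1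
  rwa [ha] at h2

/-- The Hua relation between the two root groups. -/
theorem hua (D : RootData S.frob H α L d) {k : F} (hk0 : k ≠ 0) (hk : k + σ k = 0)
    {x : Fin n → F} (hx : inW σ e f x) {c : F} (hc : c + σ c + uh σ x x = 0) (hc0 : c ≠ 0) :
    k • L x = (c + d x) • L ((k / c) • x) := by
  have hσk : σ k = -k := eq_neg_of_add_eq_zero_right hk
  have hσc : σ c ≠ 0 := (map_ne_zero σ).2 hc0
  set s := swapEl S.frob H k hk with hs
  set x₀ := (k / c) • x with hx₀
  have hc₀ : -(k ^ 2 / c) + σ (-(k ^ 2 / c)) + uh σ x₀ x₀ = 0 := by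
    rw [hx₀, uh_smul_left, uh_smul_right, map_neg, map_div₀, map_div₀, map_pow, hσk]
    field_simp
    linear_combination (-k ^ 2) * hc
  obtain ⟨hLx, hc', hα⟩ := D.spec x c hx hc
  obtain ⟨hLx₀, hc₀', hα₀⟩ := D.spec x₀ _ (hx.smul _) hc₀
  set u := uel S.frob e x c H.ee hx.1 hc with hu
  set u' := s * uel S.frob e x₀ (-(k ^ 2 / c)) H.ee (hx.smul _).1 hc₀ * s⁻¹ with hu'
  -- the two points coincide
  have huf : u.1.1 *ᵥ f = f + x + c • e := by
    rw [hu, uel_mulVec, H.fe, S.frob.swap_zero hx.2]; simp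
  have hse : s⁻¹.1.1 *ᵥ e = k⁻¹ • f := by
    have h2 := congrArg (fun v => s⁻¹.1.1 *ᵥ (k⁻¹ • v)) (swapEl_f S.frob H hk hk0)
    rw [hs] at h2 ⊢
    simp only [mulVec_smul, su_inv_mulVec] at h2
    rw [inv_smul_smul₀ hk0] at h2
    exact h2.symm
  have hu'e : ∀ (z : Fin n → F) (b : F) (hz : inW σ e f z) (hb : b + σ b + uh σ z z = 0),
      (s * uel S.frob e z b H.ee hz.1 hb * s⁻¹).1.1 *ᵥ e =
        e + k⁻¹ • z + (-(b / k ^ 2)) • f := by
    intro z b hz hb
    rw [su_mul_mulVec, su_mul_mulVec, hse, mulVec_smul, uel_mulVec, H.fe,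
      S.frob.swap_zero hz.2, mul_one, sub_zero, one_smul, mulVec_smul, mulVec_add, mulVec_add,
      mulVec_smul, hs, swapEl_f S.frob H hk hk0, swapEl_w S.frob H hk hz,
      swapEl_e S.frob H hk hk0]
    match_scalars <;> field_simp
  have hpt : u.1.1 *ᵥ f = c • (u'.1.1 *ᵥ e) := by
    rw [huf, hu', hu'e _ _ (hx.smul _) hc₀]
    match_scalars <;> field_simp
  have hgrp : u * utv S.frob f k H.ff hk * u⁻¹ =
      u' * utv S.frob e (c * σ c * k) H.ee (norm_skew S.frob c hk) * u'⁻¹ := by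
    rw [su_conj_utv, su_conj_utv, utv_congr S.frob hpt rfl]
    exact utv_smul S.frob _ c k _ _ _ _
  -- apply the automorphism
  have h1 := congrArg (fun t => α (π n F q t)) hgrp
  simp only [map_mul, map_inv, hu', D.fixE, D.fixF] at h1
  rw [hu, hα, hα₀, (D.fix_swap S)] at h1
  simp only [← map_mul, ← map_inv] at h1
  set v := uel S.frob e (L x) (c + d x) H.ee hLx.1 hc' with hv
  set v' := s * uel S.frob e (L x₀) (-(k ^ 2 / c) + d x₀) H.ee hLx₀.1 hc₀' * s⁻¹ with hv'
  rw [su_conj_utv, su_conj_utv] at h1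
  have h2 := S.pel_ext (S.pEl_utv _ _ _ _) (S.pEl_utv _ _ _ _) h1
  have hvf : v.1.1 *ᵥ f = f + L x + (c + d x) • e := by
    rw [hv, uel_mulVec, H.fe, S.frob.swap_zero hLx.2]; simp
  have hne : v.1.1 *ᵥ f ≠ 0 := fun h0 => H.symm.ne_zero (by rw [← su_inv_mulVec v f, h0, mulVec_zero])
  obtain ⟨μ, hμ⟩ := utv_eq_point S.frob _ _ _ _ hne hk0 h2
  rw [hvf, hu'e _ _ hLx₀ hc₀'] at hμ
  have hμ' : c + d x = μ := by
    have h3 := congrArg (fun z => uh σ z f) hμ
    have hneg : ∀ (u : Fin n → F), uh σ (-u) f = -uh σ u f := fun u => by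
      rw [← neg_one_smul F u, uh_smul_left, neg_one_mul]
    simpa [uh_add_left, uh_smul_left, hneg, H.ff, H.ef, H.ee, H.fe, hLx.2, hLx₀.2] using h3
  have h4 : L x = μ • (k⁻¹ • L x₀) := by
    have h5 := congrArg (fun z => z - uh σ z f • e - uh σ z e • f) hμ
    simp only [uh_add_left, uh_smul_left, H.ff, H.ef, H.ee, H.fe, hLx.1, hLx.2, hLx₀.1,
      hLx₀.2] at h5
    calc L x = f + L x + (c + d x) • e - (0 + 0 + (c + d x) * 1) • e - (1 + 0 + (c + d x) * 0) • f := by
          module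
      _ = _ := by rw [h5]; module
  rw [h4, hμ', smul_smul, smul_smul]
  congr 1
  field_simp

/-- On a line `L` is `z ↦ z A + σ z B`. -/
theorem line (D : RootData S.frob H α L d) {x : Fin n → F} (hx : inW σ e f x) :
    ∃ A B : Fin n → F, A + B = L x ∧ ∀ z : F, L (z • x) = z • A + σ z • B := by
  obtain ⟨t, ht⟩ : ∃ t : F, σ t ≠ t := by
    by_contra hh
    exact S.frob.ne (RingHom.ext fun a => not_not.1 fun h' => hh ⟨a, h'⟩)
  have htt : t - σ t ≠ 0 := sub_ne_zero.2 ht.symm
  have htt' : σ t - t ≠ 0 := sub_ne_zero.2 ht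
  set A := (t - σ t)⁻¹ • (L (t • x) - σ t • L x) with hA
  refine ⟨A, L x - A, by abel, fun z => ?_⟩
  set b := (z - σ z) / (t - σ t) with hbdef
  have hb : σ b = b := by
    rw [hbdef, map_div₀, map_sub, map_sub, S.frob.invol, S.frob.invol]
    field_simp
    ring
  have ha : σ (z - b * t) = z - b * t := by
    rw [map_sub, map_mul, hb]
    rw [hbdef]
    field_simp
    ring
  have hLz : L (z • x) = (z - b * t) • L x + b • L (t • x) := by
    have h1 := ((D.add S) (hx.smul (z - b * t)) ((hx.smul t).smul b)).1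
    rw [(D.smul_fixed S) ha hx, (D.smul_fixed S) hb (hx.smul t), smul_smul, ← add_smul, sub_add_cancel] at h1
    exact h1
  rw [hLz, hA, hbdef]
  match_scalars <;> field_simp <;> ring

/-- The shift vanishes or is the norm, and `L` is linear or conjugate linear accordingly. -/
theorem type_cases (D : RootData S.frob H α L d) {x : Fin n → F} (hx : inW σ e f x) :
    (d x = 0 ∧ (uh σ x x ≠ 0 → ∀ z : F, L (z • x) = z • L x)) ∨
      (d x ≠ 0 ∧ d x = uh σ x x ∧ ∀ z : F, L (z • x) = σ z • L x) := by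
  rcases eq_or_ne x 0 with rfl | hx0
  · exact Or.inl ⟨(D.zero S).2, fun h => absurd (uh_zero_left _) h⟩
  obtain ⟨A, B, hAB, hline⟩ := (D.line S) hx
  obtain ⟨k, hk0, hk⟩ := exists_skew S.frob
  have hσk : σ k = -k := eq_neg_of_add_eq_zero_right hk
  set m := uh σ x x with hm
  have hLx0 : L x ≠ 0 := fun h0 => hx0 ((D.eq_zero S) hx h0)
  have heq : ∀ c : F, c + σ c + m = 0 → c ≠ 0 →
      c • (m • B - d x • L x) - (d x * m) • A = 0 := by
    intro c hc hc0
    have h1 := (D.hua S) hk0 hk hx hc hc0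
    have hσc : σ c = -m - c := by linear_combination hc
    have hσc0 : σ c ≠ 0 := (map_ne_zero σ).2 hc0
    rw [hline (k / c), map_div₀, hσk] at h1
    have h2 := congrArg (fun v => (c * σ c / k) • v) h1
    simp only [smul_add, smul_smul] at h2
    rw [← hAB] at h2 ⊢
    rw [show c * σ c / k * k = c * σ c by field_simp,
      show c * σ c / k * ((c + d x) * (k / c)) = (c + d x) * σ c by field_simp,
      show c * σ c / k * ((c + d x) * (-k / σ c)) = -((c + d x) * c) by field_simp, hσc] at h2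
    rw [← sub_eq_zero] at h2
    rw [← neg_eq_zero, ← h2]
    module
  obtain ⟨c, hc, hck⟩ := exists_param_pair S.frob x hk0 hk
  rcases eq_or_ne m 0 with hm0 | hm0
  · left
    refine ⟨?_, fun h => absurd hm0 h⟩
    have h1 := heq k (by rw [hm0, add_zero]; exact hk) hk0
    rw [hm0, mul_zero, zero_smul, zero_smul, zero_sub, sub_zero, smul_neg, neg_eq_zero,
      smul_smul] at h1
    exact (mul_eq_zero.1 ((smul_eq_zero.1 h1).resolve_right hLx0)).resolve_left hk0
  have hne : ∀ c' : F, c' + σ c' + m = 0 → c' ≠ 0 := fun c' hc' h0 => hm0 (by simpa [h0] using hc')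
  have h1 := heq c hc (hne c hc)
  have h2 := heq (c + k) hck (hne _ hck)
  have hB : m • B = d x • L x := by
    have h3 : k • (m • B - d x • L x) = 0 := by
      have h4 := sub_eq_zero.2 (h2.trans h1.symm)
      rw [← h4]; module
    exact sub_eq_zero.1 ((smul_eq_zero.1 h3).resolve_left hk0)
  rw [hB, sub_self, smul_zero, zero_sub, neg_eq_zero] at h1
  rcases eq_or_ne (d x) 0 with hd | hd
  · left
    refine ⟨hd, fun _ z => ?_⟩
    rw [hd, zero_smul] at hB
    have hB0 : B = 0 := (smul_eq_zero.1 hB).resolve_left hm0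
    rw [hline, ← hAB, hB0, smul_zero, add_zero, add_zero]
  · right
    have hA0 : A = 0 := (smul_eq_zero.1 h1).resolve_left (mul_ne_zero hd hm0)
    rw [hA0, zero_add] at hAB
    subst hAB
    refine ⟨hd, ?_, fun z => by rw [hline, hA0, smul_zero, zero_add]⟩
    have h3 : (m - d x) • L x = 0 := by
      rw [sub_smul, ← hB, hA0] at *
      simp
    exact (sub_eq_zero.1 ((smul_eq_zero.1 h3).resolve_right hLx0)).symm

end RootData

end CfsgLib.KnownB.PSUAut
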