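import Cfsg.Agent.Lib.KnownB.PSUAut.Root

/-!
`PSU_n(q)`: every automorphism permutes the root groups at isotropic points.
-/

set_option autoImplicit false

namespace CfsgLib.KnownB.PSUAut

open Matrix CfsgLib.Classical CfsgLib.Classical.Unitary

variable {n : ℕ} {F : Type*} [Field F] [Finite F] {q p : ℕ} {σ : F →+* F}

theorem exists_uel_param (h : UFrob σ q) (x : Fin n → F) : ∃ c : F, c + σ c + uh σ x x = 0 := by
  obtain ⟨θ, hθ⟩ := exists_trace h
  refine ⟨-(θ * uh σ x x), ?_⟩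
  rw [map_neg, map_mul, h.symm]
  linear_combination (-uh σ x x) * hθ

/-- A nonzero common fixed vector of a `p`-group on the complement modulo `e`. -/
theorem Setting.exists_fixed (S : Setting F σ p q n) {e f : Fin n → F} (H : HPair σ e f)
    (R : Subgroup (Cfsg.SU n F q)) (hR : IsPGroup p R) (hRe : ∀ g ∈ R, g.1.1 *ᵥ e = e)
    {w : Fin n → F} (hw : inW σ e f w) (hw0 : w ≠ 0) :
    ∃ x, inW σ e f x ∧ x ≠ 0 ∧ ∀ g ∈ R, ∃ a : F, g.1.1 *ᵥ x = x + a • e := by
  have := S.char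
  haveI := Fact.mk S.prime
  let W : Submodule F (Fin n → F) :=
    { carrier := {z | inW σ e f z}
      zero_mem' := inW.zero
      add_mem' := fun a b => a.add b
      smul_mem' := fun a z hz => hz.smul a }
  have hge : ∀ (g : R) (z : Fin n → F), inW σ e f z → uh σ (g.1.1.1 *ᵥ z) e = 0 := fun g z hz => by
    have h1 := su_uh S.frob g.1 z e
    rwa [hRe g.1 g.2, hz.1] at h1
  letI : MulAction R W :=
    { smul := fun g z => ⟨g.1.1.1 *ᵥ z.1 - uh σ (g.1.1.1 *ᵥ z.1) f • e,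
        ⟨by rw [uh_sub_left, uh_smul_left, H.ee, hge g z.1 z.2]; ring,
          by rw [uh_sub_left, uh_smul_left, H.ef]; ring⟩⟩
      one_smul := fun z => Subtype.ext (by
        show (1 : Cfsg.SU n F q).1.1 *ᵥ z.1 - uh σ ((1 : Cfsg.SU n F q).1.1 *ᵥ z.1) f • e = z.1
        rw [su_one_mulVec, z.2.2, zero_smul, sub_zero])
      mul_smul := fun g k z => Subtype.ext (by
        show (g.1 * k.1).1.1 *ᵥ z.1 - uh σ ((g.1 * k.1).1.1 *ᵥ z.1) f • e =
          g.1.1.1 *ᵥ (k.1.1.1 *ᵥ z.1 - uh σ (k.1.1.1 *ᵥ z.1) f • e) -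
            uh σ (g.1.1.1 *ᵥ (k.1.1.1 *ᵥ z.1 - uh σ (k.1.1.1 *ᵥ z.1) f • e)) f • e
        rw [su_mul_mulVec, mulVec_sub, mulVec_smul, hRe g.1 g.2, uh_sub_left, uh_smul_left, H.ef]
        module) }
  have : Nontrivial W := ⟨⟨⟨w, hw⟩, 0, fun h0 => hw0 (congrArg Subtype.val h0)⟩⟩
  have hdvd : p ∣ Nat.card W := by
    have := Fintype.ofFinite F
    obtain ⟨k, -, hk⟩ := FiniteField.card F p
    rw [Module.natCard_eq_pow_finrank (K := F) (V := W), Nat.card_eq_fintype_card, hk, ← pow_mul]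
    exact dvd_pow_self p (Nat.mul_pos k.pos Module.finrank_pos).ne'
  have h0 : (0 : W) ∈ MulAction.fixedPoints R W := fun g => Subtype.ext (by
    show g.1.1.1 *ᵥ (0 : Fin n → F) - uh σ (g.1.1.1 *ᵥ (0 : Fin n → F)) f • e = 0
    rw [mulVec_zero, uh_zero_left, zero_smul, sub_zero])
  obtain ⟨x, hx, hne⟩ := hR.exists_fixed_point_of_prime_dvd_card_of_fixed_point W hdvd h0
  refine ⟨x.1, x.2, fun hx0 => hne (Subtype.ext hx0.symm), fun g hg =>
    ⟨uh σ (g.1.1 *ᵥ x.1) f, ?_⟩⟩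
  have h1 : g.1.1 *ᵥ x.1 - uh σ (g.1.1 *ᵥ x.1) f • e = x.1 := congrArg Subtype.val (hx ⟨g, hg⟩)
  exact sub_eq_iff_eq_add.1 h1

/-- A `p`-subgroup normalised by the centraliser of a transvection lies in the root group. -/
theorem Setting.le_RR (S : Setting F σ p q n) {e f : Fin n → F} (H : HPair σ e f)
    (R : Subgroup (Cfsg.PSU n F q)) (hR : IsPGroup p R) (hle : R ≤ Cc σ n q e S.frob)
    (hnorm : ∀ c ∈ Cc σ n q e S.frob, ∀ r ∈ R, c * r * c⁻¹ ∈ R) :
    R ≤ RR σ n q e S.frob := by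
  obtain ⟨R', hR', hmap⟩ := S.exists_lift R hR
  rw [← hmap]
  refine Subgroup.map_mono ?_
  have hfix : ∀ g ∈ R', g.1.1 *ᵥ e = e := fun g hg => by
    obtain ⟨a, -, ha⟩ := (S.mem_Cc_iff H.ne_zero H.ee g).1 (hle (hmap ▸ ⟨g, hg, rfl⟩))
    rwa [S.eigen_eq_one (PEl.of_mem hR' hg) H.ne_zero ha, one_smul] at ha
  let K : Set (Fin n → F) :=
    {z | uh σ z e = 0 ∧ ∀ g ∈ R', ∃ a : F, g.1.1 *ᵥ z = z + a • e}
  have hKadd : ∀ x y, x ∈ K → y ∈ K → x + y ∈ K := fun x y hx hy =>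
    ⟨by rw [uh_add_left, hx.1, hy.1, add_zero], fun g hg => by
      obtain ⟨a, ha⟩ := hx.2 g hg
      obtain ⟨b, hb⟩ := hy.2 g hg
      exact ⟨a + b, by rw [mulVec_add, ha, hb, add_smul]; abel⟩⟩
  have hKsmul : ∀ (c : F) x, x ∈ K → c • x ∈ K := fun c x hx =>
    ⟨by rw [uh_smul_left, hx.1, mul_zero], fun g hg => by
      obtain ⟨a, ha⟩ := hx.2 g hg
      exact ⟨c * a, by rw [mulVec_smul, ha, smul_add, smul_smul]⟩⟩
  suffices hall : ∀ z, inW σ e f z → z ∈ K by
    intro g hg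
    refine ⟨hfix g hg, fun z hz => ?_⟩
    obtain ⟨w, hw, hzw⟩ := H.decomp z
    obtain ⟨a, ha⟩ := (hall w hw).2 g hg
    rw [hz, zero_smul, add_zero] at hzw
    refine ⟨a, ?_⟩
    rw [hzw, mulVec_add, mulVec_smul, hfix g hg, ha, add_assoc]
  intro z hz
  rcases eq_or_ne z 0 with rfl | hz0
  · exact ⟨uh_zero_left _, fun g _ => ⟨0, by simp⟩⟩
  obtain ⟨x, hxW, hx0, hx⟩ := S.exists_fixed H R' hR' hfix hz hz0
  have hxK : x ∈ K := ⟨hxW.1, hx⟩
  -- invariance under transvections of the complement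
  obtain ⟨k, hk0, hk⟩ := exists_skew S.frob
  have hstep : ∀ v y, inW σ e f v → uh σ v v = 0 → y ∈ K → uh σ y v ≠ 0 → v ∈ K := by
    intro v y hv hvv hy hyv
    set T := utv S.frob v k hvv hk with hT
    have hTe : T.1.1 *ᵥ e = e := by rw [hT, utv_mulVec, S.frob.swap_zero hv.1]; simp
    have hTy : T.1.1 *ᵥ y ∈ K := by
      refine ⟨?_, fun g hg => ?_⟩
      · rw [← hTe, su_uh S.frob]; exact hy.1
      · have hc : π n F q T ∈ Cc σ n q e S.frob :=
          (S.mem_Cc_iff H.ne_zero H.ee T).2 ⟨1, by simp, by rw [one_smul, hTe]⟩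
        obtain ⟨g', hg', hgg'⟩ : π n F q (T⁻¹ * g * T) ∈ R'.map (π n F q) := by
          rw [hmap, map_mul, map_mul, map_inv]
          have hgR : π n F q g ∈ R := hmap ▸ Subgroup.mem_map_of_mem _ hg
          have h1 := hnorm _ (inv_mem hc) _ hgR
          rwa [inv_inv] at h1
        have heq : g' = T⁻¹ * g * T := by
          refine S.pel_ext (PEl.of_mem hR' hg') ?_ hgg'
          have h2 := (PEl.of_mem hR' hg).conj T⁻¹
          rwa [inv_inv] at h2
        obtain ⟨a, ha⟩ := hy.2 g' hg'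
        refine ⟨a, ?_⟩
        rw [heq, su_mul_mulVec, su_mul_mulVec] at ha
        have h3 := congrArg (fun w => T.1.1 *ᵥ w) ha
        simp only [su_mulVec_inv, mulVec_add, mulVec_smul, hTe] at h3
        exact h3
    rw [hT, utv_mulVec] at hTy
    have h4 : (k * uh σ y v) • v ∈ K := by
      have h5 := hKadd _ _ hTy (hKsmul (-1) y hy)
      rwa [neg_one_smul, add_neg_cancel_comm] at h5
    have h6 := hKsmul (k * uh σ y v)⁻¹ _ h4
    rwa [inv_smul_smul₀ (mul_ne_zero hk0 hyv)] at h6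
  by_cases hdim : ∃ a : F, z = a • x
  · obtain ⟨a, rfl⟩ := hdim; exact hKsmul a x hxK
  push Not at hdim
  obtain ⟨v, hv, hvv, hxv⟩ := exists_iso_nonorth S.card S.frob H hxW hx0 hz hdim
  have hvK := hstep v x hv hvv hxK hxv
  have hv0 : v ≠ 0 := fun h0 => hxv (by rw [h0, uh_zero_right])
  obtain ⟨w, hw, hww, hvw, hwv⟩ := hv.exists_partner' S.frob H hv0 hvv
  have hwK : w ∈ K := hstep w v hw hww hvK (by rw [hvw]; exact one_ne_zero)
  have hiso : ∀ u, inW σ e f u → uh σ u u = 0 → u ∈ K := by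
    intro u hu huu
    by_cases h1 : uh σ v u = 0
    · by_cases h2 : uh σ w u = 0
      · have h3 : w + u ∈ K := hstep _ v (hw.add hu) (by
          simp only [uh_add_left, uh_add_right, hww, huu, h2, S.frob.swap_zero h2, add_zero]) hvK
          (by rw [uh_add_right, hvw, h1, add_zero]; exact one_ne_zero)
        have h4 := hKadd _ _ h3 (hKsmul (-1) w hwK)
        rwa [neg_one_smul, add_neg_cancel_comm] at h4
      · exact hstep u w hu huu hwK h2
    · exact hstep u v hu huu hvK h1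
  obtain ⟨θ, hθ⟩ := exists_trace S.frob
  set z' := z - uh σ z w • v - uh σ z v • w with hz'
  have hz'W : inW σ e f z' := (hz.sub (hv.smul _)).sub (hw.smul _)
  have hz'v : uh σ z' v = 0 := by
    simp only [hz', uh_sub_left, uh_smul_left, hvv, hwv]; ring
  have hz'w : uh σ z' w = 0 := by
    simp only [hz', uh_sub_left, uh_smul_left, hww, hvw]; ring
  set m := uh σ z' z' with hm
  have hs : z' + w - (θ * m) • v ∈ K := hiso _ ((hz'W.add hw).sub (hv.smul _)) (by
    simp only [uh_add_left, uh_add_right, uh_sub_left, uh_sub_right, uh_smul_left, uh_smul_right,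
      hz'v, hz'w, S.frob.swap_zero hz'v, S.frob.swap_zero hz'w, hvv, hww, hvw, hwv, map_mul,
      show σ m = m from S.frob.symm z' z', ← hm]
    linear_combination (-m) * hθ)
  have hfin : z = (z' + w - (θ * m) • v) + ((uh σ z w + θ * m) • v + (uh σ z v - 1) • w) := by
    rw [hz']; module
  rw [hfin]
  exact hKadd _ _ hs (hKadd _ _ (hKsmul _ v hvK) (hKsmul _ w hwK))

/-- The `p`-elements commuting with the root group are transvections. -/
theorem Setting.centralizer_RR (S : Setting F σ p q n) {e f : Fin n → F} (H : HPair σ e f)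
    {g : Cfsg.SU n F q} (hg : PEl p g)
    (hcomm : ∀ u ∈ Ue σ n q e S.frob, π n F q g * π n F q u = π n F q u * π n F q g) :
    ∃ (c : F) (hc : c + σ c = 0), g = utv S.frob e c H.ee hc := by
  have hcomm' : ∀ u ∈ Ue σ n q e S.frob, g * u = u * g := fun u hu => by
    have h1 := S.conj_eq (S.pEl_Ue hu) (S.pEl_Ue hu) (g := g) (by
      rw [map_mul, map_mul, map_inv, hcomm u hu, mul_inv_cancel_right])
    exact mul_inv_eq_iff_eq_mul.1 h1
  obtain ⟨k, hk0, hk⟩ := exists_skew S.frob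
  have hge : g.1.1 *ᵥ e = e := by
    obtain ⟨a, -, ha⟩ := (S.centralizer_single H.ne_zero H.ee hk hk0 g).1
      (hcomm _ (utv_mem_Ue S.frob e k H.ee hk))
    rwa [S.eigen_eq_one hg H.ne_zero ha, one_smul] at ha
  have hgU : g ∈ Ue σ n q e S.frob := by
    refine ⟨hge, fun z hz => ?_⟩
    obtain ⟨w, hw, hzw⟩ := H.decomp z
    rw [hz, zero_smul, add_zero] at hzw
    obtain ⟨w', hw', hgw⟩ := H.decomp (g.1.1 *ᵥ w)
    have hgwe : uh σ (g.1.1 *ᵥ w) e = 0 := by
      have h1 := su_uh S.frob g w e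
      rwa [hge, hw.1] at h1
    rw [hgwe, zero_smul, add_zero] at hgw
    have hww : w' = w := by
      refine H.w_ext S.frob hw' hw fun x hx => ?_
      obtain ⟨c, hc⟩ := exists_uel_param S.frob x
      have h1 := congrArg (fun k : Cfsg.SU n F q => k.1.1 *ᵥ w)
        (hcomm' _ (uel_mem_Ue S.frob e x c H.ee hx.1 hc))
      simp only [su_mul_mulVec, uel_mulVec, hw.1, zero_smul, add_zero, mul_zero, zero_sub,
        mulVec_add, mulVec_smul, hge, hgwe, add_right_inj] at h1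
      have h2 : uh σ w x = uh σ (g.1.1 *ᵥ w) x := by
        have h3 := congrArg (fun y => uh σ y f) h1
        simp only [uh_smul_left, uh_add_left, H.ef] at h3
        linear_combination -h3
      rw [← S.frob.symm w' x, ← S.frob.symm w x, h2, hgw, uh_add_left, uh_smul_left,
        S.frob.swap_zero hx.1, mul_zero, zero_add]
    refine ⟨uh σ (g.1.1 *ᵥ w) f, ?_⟩
    rw [hzw, mulVec_add, mulVec_smul, hge]
    conv_lhs => rw [hgw, hww]
    abel
  obtain ⟨y, d, hy, hd, rfl⟩ := exists_uel S.frob H hgU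
  have hy0 : y = 0 := by
    refine H.w_ext S.frob hy inW.zero fun x hx => ?_
    rw [uh_zero_right]
    have hsym : ∀ x, inW σ e f x → uh σ x y = uh σ y x := fun x hx => by
      obtain ⟨c, hc⟩ := exists_uel_param S.frob x
      have h1 := hcomm' _ (uel_mem_Ue S.frob e x c H.ee hx.1 hc)
      rw [uel_mul S.frob H.ee hy.1 hx.1 hd hc, uel_mul S.frob H.ee hx.1 hy.1 hc hd] at h1
      have h2 := (uel_inj S.frob H (hy.add hx) (hx.add hy) _ _ h1).2
      linear_combination -h2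
    obtain ⟨t, ht⟩ : ∃ t : F, σ t ≠ t := by
      by_contra hh
      exact S.frob.ne (RingHom.ext fun a => not_not.1 fun h' => hh ⟨a, h'⟩)
    have h1 := hsym x hx
    have h2 := hsym (t • x) (hx.smul t)
    rw [uh_smul_left, uh_smul_right] at h2
    have h3 : (t - σ t) * uh σ x y = 0 := by linear_combination h2 - σ t * h1
    exact (mul_eq_zero.1 h3).resolve_left (sub_ne_zero.2 ht.symm)
  subst hy0
  have hd' : d + σ d = 0 := by rwa [uh_zero_left, add_zero] at hd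
  refine ⟨d, hd', su_ext fun z => ?_⟩
  rw [uel_mulVec, utv_mulVec, uh_zero_right, smul_zero, add_zero, sub_zero]

theorem Setting.TT_eq (S : Setting F σ p q n) {e f : Fin n → F} (H : HPair σ e f) :
    TT σ n q e S.frob =
      {x | x ∈ RR σ n q e S.frob ∧ ∀ y ∈ RR σ n q e S.frob, x * y = y * x} := by
  ext x
  constructor
  · rintro ⟨c, hv, hc, rfl⟩
    refine ⟨⟨_, utv_mem_Ue S.frob e c hv hc, rfl⟩, ?_⟩
    rintro _ ⟨u, hu, rfl⟩
    have h1 : u * utv S.frob e c hv hc * u⁻¹ = utv S.frob e c hv hc := by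
      rw [su_conj_utv]; exact utv_congr S.frob hu.1 rfl _ _
    rw [← map_mul, ← map_mul, mul_inv_eq_iff_eq_mul.1 h1]
  · rintro ⟨⟨g, hg, rfl⟩, hcomm⟩
    obtain ⟨c, hc, rfl⟩ := S.centralizer_RR H (S.pEl_Ue hg) fun u hu => hcomm _ ⟨u, hu, rfl⟩
    exact ⟨c, H.ee, hc, rfl⟩

/-- An automorphism sends the root groups at a point to those at a point. -/
theorem Setting.image_point (S : Setting F σ p q n) (α : MulAut (Cfsg.PSU n F q))
    {e : Fin n → F} (he : e ≠ 0) (hee : uh σ e e = 0) :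
    ∃ v : Fin n → F, v ≠ 0 ∧ uh σ v v = 0 ∧
      (RR σ n q e S.frob).map α.toMonoidHom = RR σ n q v S.frob ∧
      α '' TT σ n q e S.frob = TT σ n q v S.frob := by
  haveI := Fact.mk S.prime
  obtain ⟨f, H⟩ := exists_hpair S.frob he hee
  obtain ⟨P, hP⟩ := (S.isPGroup_RR e).exists_le_sylow
  obtain ⟨k, hk0, hk⟩ := exists_skew S.frob
  have hnt : Nontrivial P.1 := by
    refine ⟨⟨⟨_, hP ⟨_, utv_mem_Ue S.frob e k hee hk, rfl⟩⟩, 1, fun h1 => ?_⟩⟩
    have h2 := S.pel_ext (S.pEl_utv e k hee hk) ⟨0, by simp⟩ (b := 1)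
      (by rw [map_one]; exact congrArg Subtype.val h1)
    obtain ⟨z, hz⟩ := exists_uh_eq_one S.frob he
    have h3 := congrArg (fun g : Cfsg.SU n F q => g.1.1 *ᵥ z) h2
    simp only [utv_mulVec, su_one_mulVec, hz, mul_one, add_eq_left] at h3
    exact hk0 ((smul_eq_zero.1 h3).resolve_right he)
  have hcenterT : ∀ z ∈ P.1, (∀ y ∈ P.1, z * y = y * z) →
      ∃ (c : F) (hc : c + σ c = 0), z = π n F q (utv S.frob e c hee hc) := by
    intro z hz hzc
    obtain ⟨g, rfl⟩ := π_surjective z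
    obtain ⟨P', hP', hmap⟩ := S.exists_lift P.1 P.2
    obtain ⟨g', hg', hgg'⟩ : π n F q g ∈ P'.map (π n F q) := hmap.symm ▸ hz
    obtain ⟨c, hc, rfl⟩ := S.centralizer_RR H (g := g') (PEl.of_mem hP' hg') fun u hu => by
      rw [hgg']; exact hzc _ (hP ⟨u, hu, rfl⟩)
    exact ⟨c, hc, hgg'.symm⟩
  haveI := P.2.center_nontrivial
  obtain ⟨⟨⟨z, hzP⟩, hzc⟩, hzne⟩ := exists_ne (1 : Subgroup.center P.1)
  have hz' : ∀ y ∈ P.1, z * y = y * z := fun y hy =>
    (congrArg Subtype.val (Subgroup.mem_center_iff.1 hzc ⟨y, hy⟩)).symm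
  obtain ⟨c, hc, hzt⟩ := hcenterT z hzP hz'
  have hc0 : c ≠ 0 := fun h0 => hzne (Subtype.ext (Subtype.ext (by
    subst h0
    show z = 1
    rw [hzt, show utv S.frob e 0 hee hc = 1 from su_ext fun x => by simp, map_one])))
  -- the image of `P` is conjugate to `P`
  obtain ⟨y, hy⟩ := MulAction.exists_smul_eq (Cfsg.PSU n F q) P
    (P.mapSurjective (f := α.toMonoidHom) α.surjective)
  have hαP : P.1.map α.toMonoidHom = P.1.map (MulAut.conj y).toMonoidHom := by
    have h1 := congrArg (fun Q : Sylow p (Cfsg.PSU n F q) => Q.1) hy.symm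
    exact h1
  obtain ⟨z', hz'P, hzz'⟩ : α z ∈ P.1.map (MulAut.conj y).toMonoidHom := hαP ▸ ⟨z, hzP, rfl⟩
  have hz'c : ∀ x ∈ P.1, z' * x = x * z' := fun x hx => by
    obtain ⟨x', hx', hxx'⟩ : (MulAut.conj y) x ∈ P.1.map α.toMonoidHom := hαP.symm ▸ ⟨x, hx, rfl⟩
    refine (MulAut.conj y).injective ?_
    rw [map_mul, map_mul, show (MulAut.conj y) z' = α z from hzz', ← hxx']
    show α z * α x' = α x' * α z
    rw [← map_mul, ← map_mul, hz' x' hx']
  obtain ⟨c', hc', hzt'⟩ := hcenterT z' hz'P hz'c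
  obtain ⟨g, rfl⟩ := π_surjective y
  have hc'0 : c' ≠ 0 := fun h0 => hzne (Subtype.ext (Subtype.ext (by
    subst h0
    show z = 1
    refine α.injective ?_
    rw [← show (MulAut.conj (π n F q g)) z' = α z from hzz', hzt',
      show utv S.frob e 0 hee hc' = 1 from su_ext fun x => by simp, map_one, map_one, map_one])))
  set v := g.1.1 *ᵥ e with hv
  have hvv : uh σ v v = 0 := by rw [hv, su_uh S.frob, hee]
  have hv0 : v ≠ 0 := fun h0 => he (by rw [← su_inv_mulVec g e, ← hv, h0, mulVec_zero])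
  have hαz : α (π n F q (utv S.frob e c hee hc)) = π n F q (utv S.frob v c' hvv hc') := by
    rw [← hzt, ← show (MulAut.conj (π n F q g)) z' = α z from hzz', hzt', MulAut.conj_apply,
      ← map_mul, ← map_inv, ← map_mul, su_conj_utv]
  have hCc : ∀ x, α x ∈ Cc σ n q v S.frob ↔ x ∈ Cc σ n q e S.frob := fun x => by
    rw [← S.centralizer_eq_Cc he hee hc hc0, ← S.centralizer_eq_Cc hv0 hvv hc' hc'0,
      Subgroup.mem_centralizer_singleton_iff, Subgroup.mem_centralizer_singleton_iff, ← hαz,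
      ← map_mul, ← map_mul, α.injective.eq_iff]
  obtain ⟨fv, Hv⟩ := exists_hpair S.frob hv0 hvv
  have hR : (RR σ n q e S.frob).map α.toMonoidHom = RR σ n q v S.frob := by
    refine le_antisymm (S.le_RR Hv _ ((S.isPGroup_RR e).map _) ?_ ?_) ?_
    · rintro _ ⟨x, hx, rfl⟩
      exact (hCc x).2 (S.RR_le_Cc he hee hx)
    · rintro d hd _ ⟨x, hx, rfl⟩
      obtain ⟨d', rfl⟩ := α.surjective d
      exact ⟨d' * x * d'⁻¹, S.RR_normal he hee ((hCc d').1 hd) hx, by simp⟩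
    · intro x hx
      have h1 := S.le_RR H ((RR σ n q v S.frob).map α.symm.toMonoidHom) ((S.isPGroup_RR v).map _) ?_ ?_
      · exact ⟨α.symm x, h1 ⟨x, hx, rfl⟩, α.apply_symm_apply x⟩
      · rintro _ ⟨x, hx, rfl⟩
        refine (hCc _).1 ?_
        show α (α.symm x) ∈ _
        rw [α.apply_symm_apply]
        exact S.RR_le_Cc hv0 hvv hx
      · rintro d hd _ ⟨x, hx, rfl⟩
        exact ⟨α d * x * (α d)⁻¹, S.RR_normal hv0 hvv ((hCc d).2 hd) hx, by simp⟩
  refine ⟨v, hv0, hvv, hR, ?_⟩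
  rw [S.TT_eq H, S.TT_eq Hv, ← hR]
  ext x
  constructor
  · rintro ⟨x, ⟨hx, hxc⟩, rfl⟩
    refine ⟨⟨x, hx, rfl⟩, ?_⟩
    rintro _ ⟨y, hy, rfl⟩
    show α x * α y = α y * α x
    rw [← map_mul, ← map_mul, hxc y hy]
  · rintro ⟨⟨x, hx, rfl⟩, hxc⟩
    refine ⟨x, ⟨hx, fun y hy => α.injective ?_⟩, rfl⟩
    rw [map_mul, map_mul]
    exact hxc _ ⟨y, hy, rfl⟩

end CfsgLib.KnownB.PSUAut
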