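import Cfsg.Agent.Lib.KnownB.PSUAut.Hua

/-!
`Aut PSU_n(q)`: every automorphism is a conjugation by `GU` times a field automorphism.
-/

set_option autoImplicit false

namespace CfsgLib.KnownB.PSUAut

open Matrix CfsgLib.Classical CfsgLib.Classical.Unitary

variable {n : ℕ} {F : Type*} [Field F] [Finite F] {q p : ℕ} {σ : F →+* F}

namespace RootData

variable (S : Setting F σ p q n) {e f : Fin n → F} {H : HPair σ e f}
  {α : MulAut (Cfsg.PSU n F q)} {L : (Fin n → F) → Fin n → F} {d : (Fin n → F) → F}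

/-- The type does not depend on the vector. -/
theorem global_cases (D : RootData S.frob H α L d) :
    (∀ x, inW σ e f x → d x = 0) ∨ ∀ x, inW σ e f x → d x = uh σ x x := by
  by_contra hne
  push Not at hne
  obtain ⟨⟨y, hy, hyd⟩, ⟨x, hx, hxd⟩⟩ := hne
  obtain ⟨hdx, hxlin⟩ : d x = 0 ∧ (uh σ x x ≠ 0 → ∀ z : F, L (z • x) = z • L x) :=
    (D.type_cases S hx).resolve_right fun h => hxd h.2.1
  obtain ⟨-, hyN, hyconj⟩ : d y ≠ 0 ∧ d y = uh σ y y ∧ ∀ z : F, L (z • y) = σ z • L y :=
    (D.type_cases S hy).resolve_left fun h => hyd h.1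
  have hm : uh σ x x ≠ 0 := fun h0 => hxd (by rw [hdx, h0])
  have hlin := hxlin hm
  have hy0 : y ≠ 0 := fun h0 => hyd (by rw [h0]; exact (D.zero S).2)
  have hx0 : x ≠ 0 := fun h0 => hm (by rw [h0]; exact uh_zero_left _)
  have hLx : L x ≠ 0 := fun h0 => hx0 (D.eq_zero S hx h0)
  have hLy : L y ≠ 0 := fun h0 => hy0 (D.eq_zero S hy h0)
  obtain ⟨t, ht⟩ : ∃ t : F, σ t ≠ t := by
    by_contra hh
    exact S.frob.ne (RingHom.ext fun a => not_not.1 fun h' => hh ⟨a, h'⟩)
  have ht0 : t ≠ 0 := fun h0 => ht (by rw [h0, map_zero])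
  have key : ∀ a : F, a ≠ 0 → σ a * uh σ y x - σ a * uh σ (L y) (L x) = -d y := by
    intro a ha
    have hax0 : a • x ≠ 0 := smul_ne_zero ha hx0
    have hLax : L (a • x) ≠ 0 := fun h0 => hax0 (D.eq_zero S (hx.smul a) h0)
    have hd_ax : d (a • x) = 0 := by
      rcases D.type_cases S (hx.smul a) with h | ⟨-, -, h⟩
      · exact h.1
      · exfalso
        have h1 := h t
        rw [smul_smul, hlin, hlin, smul_smul] at h1
        have h2 : ((t - σ t) * a) • L x = 0 := by rw [sub_mul, sub_smul, h1, sub_self]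
        exact mul_ne_zero (sub_ne_zero.2 ht.symm) ha ((smul_eq_zero.1 h2).resolve_right hLx)
    have hd_sum : d (a • x + y) = 0 := by
      rcases D.type_cases S ((hx.smul a).add hy) with h | ⟨-, -, h⟩
      · exact h.1
      · exfalso
        have h1 := h t
        rw [smul_add, (D.add S ((hx.smul a).smul t) (hy.smul t)).1, (D.add S (hx.smul a) hy).1,
          smul_add, smul_smul, hlin, hlin, smul_smul, hyconj, add_left_inj] at h1
        have h2 : ((t - σ t) * a) • L x = 0 := by rw [sub_mul, sub_smul, h1, sub_self]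
        exact mul_ne_zero (sub_ne_zero.2 ht.symm) ha ((smul_eq_zero.1 h2).resolve_right hLx)
    have h1 := (D.add S (hx.smul a) hy).2
    rw [hd_sum, hd_ax, hlin, uh_smul_right, uh_smul_right] at h1
    linear_combination -h1
  have h1 := key 1 one_ne_zero
  rw [map_one, one_mul, one_mul] at h1
  have h2 := key t ht0
  rw [← mul_sub, h1] at h2
  have h3 : (σ t - 1) * d y = 0 := by linear_combination -h2
  have h4 : σ t - 1 ≠ 0 := fun h0 => ht (by
    have h5 : σ t = 1 := sub_eq_zero.1 h0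
    have h6 : t = 1 := σ.injective (by rw [h5, map_one])
    rw [h5, h6])
  rcases D.type_cases S hy with h | h
  · exact hyd h.1
  · exact h.1 ((mul_eq_zero.1 h3).resolve_left h4)

/-- Without shift `L` extends to a unitary map. -/
theorem exists_gu (D : RootData S.frob H α L d) (hd : ∀ x, inW σ e f x → d x = 0) :
    ∃ g : Cfsg.GU n F q, g.1.1 *ᵥ e = e ∧ g.1.1 *ᵥ f = f ∧
      ∀ x, inW σ e f x → g.1.1 *ᵥ x = L x := by
  have hiso : ∀ x y, inW σ e f x → inW σ e f y → uh σ (L y) (L x) = uh σ y x := fun x y hx hy => by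
    have h1 := (D.add S hx hy).2
    rw [hd _ (hx.add hy), hd _ hx, hd _ hy] at h1
    linear_combination h1
  have hlin : ∀ (z : F) x, inW σ e f x → L (z • x) = z • L x := by
    intro z x hx
    let W := {w : Fin n → F // inW σ e f w}
    let Lw : W → W := fun w => ⟨L w.1, D.mem S w.2⟩
    have hinj : Function.Injective Lw := fun u v huv => by
      have h0 : L (u.1 - v.1) = 0 := by
        have h1 := (D.add S (u.2.sub v.2) v.2).1
        rw [sub_add_cancel, show L u.1 = L v.1 from congrArg Subtype.val huv] at h1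
        exact right_eq_add.1 h1
      exact Subtype.ext (sub_eq_zero.1 (D.eq_zero S (u.2.sub v.2) h0))
    refine H.w_ext S.frob (D.mem S (hx.smul z)) ((D.mem S hx).smul z) fun w hw => ?_
    obtain ⟨⟨u, hu⟩, hu'⟩ := Finite.injective_iff_surjective.1 hinj ⟨w, hw⟩
    obtain rfl : L u = w := congrArg Subtype.val hu'
    rw [hiso _ _ (hx.smul z) hu, uh_smul_right, uh_smul_right, hiso _ _ hx hu]
  let P : (Fin n → F) → Fin n → F := fun z => z - uh σ z f • e - uh σ z e • f
  have hP : ∀ z, inW σ e f (P z) := fun z =>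
    ⟨by simp only [P, uh_sub_left, uh_smul_left, H.ee, H.fe]; ring,
      by simp only [P, uh_sub_left, uh_smul_left, H.ef, H.ff]; ring⟩
  have hPe : P e = 0 := by simp [P, H.ee, H.ef]
  have hPf : P f = 0 := by simp [P, H.ff, H.fe]
  have hPw : ∀ w, inW σ e f w → P w = w := fun w hw => by simp [P, hw.1, hw.2]
  have hPadd : ∀ u v, P (u + v) = P u + P v := fun u v => by
    simp only [P, uh_add_left]; module
  have hPsmul : ∀ (c : F) u, P (c • u) = c • P u := fun c u => by
    simp only [P, uh_smul_left]; module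
  let G : (Fin n → F) →ₗ[F] (Fin n → F) :=
    { toFun := fun z => uh σ z f • e + uh σ z e • f + L (P z)
      map_add' := fun u v => by
        rw [hPadd, (D.add S (hP u) (hP v)).1, uh_add_left, uh_add_left]; module
      map_smul' := fun c u => by
        rw [hPsmul, hlin _ _ (hP u), uh_smul_left, uh_smul_left, RingHom.id_apply]; module }
  have hG : ∀ z, G z = uh σ z f • e + uh σ z e • f + L (P z) := fun _ => rfl
  have hGuh : ∀ u v, uh σ (G u) (G v) = uh σ u v := by
    intro u v
    have h2 := hiso _ _ (hP v) (hP u)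
    obtain ⟨hu1, hu2⟩ := D.mem S (hP u)
    obtain ⟨hv1, hv2⟩ := D.mem S (hP v)
    simp only [hG, uh_add_left, uh_add_right, uh_smul_left, uh_smul_right, H.ee, H.ef, H.fe, H.ff,
      hu1, hu2, S.frob.swap_zero hv1, S.frob.swap_zero hv2, h2]
    simp only [P, uh_sub_left, uh_sub_right, uh_smul_left, uh_smul_right, H.ee, H.ef, H.fe, H.ff,
      S.frob.symm]
    ring
  have hGker : LinearMap.ker G = ⊥ := by
    refine LinearMap.ker_eq_bot'.2 fun z hz => uh_ext S.frob fun x => ?_
    rw [← hGuh x z, hz, uh_zero_right, uh_zero_right]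
  have hdet : (LinearMap.toMatrix' G).det ≠ 0 := by
    rw [LinearMap.det_toMatrix']
    exact fun h0 => (LinearMap.det_eq_zero_iff_ker_ne_bot (f := G)).1 h0 hGker
  refine ⟨⟨GeneralLinearGroup.mkOfDetNeZero (LinearMap.toMatrix' G) hdet, fun u v => ?_⟩, ?_, ?_, ?_⟩
  · show Cfsg.hermForm n F q (LinearMap.toMatrix' G *ᵥ u) (LinearMap.toMatrix' G *ᵥ v) = _
    rw [LinearMap.toMatrix'_mulVec, LinearMap.toMatrix'_mulVec, S.frob.hermForm_eq,
      S.frob.hermForm_eq, hGuh]
  · show LinearMap.toMatrix' G *ᵥ e = e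
    rw [LinearMap.toMatrix'_mulVec, hG, hPe, (D.zero S).1, H.ef, H.ee]; simp
  · show LinearMap.toMatrix' G *ᵥ f = f
    rw [LinearMap.toMatrix'_mulVec, hG, hPf, (D.zero S).1, H.ff, H.fe]; simp
  · intro x hx
    show LinearMap.toMatrix' G *ᵥ x = L x
    rw [LinearMap.toMatrix'_mulVec, hG, hPw x hx, hx.1, hx.2]; simp

end RootData

/-- Agreement on the two root groups forces equality. -/
theorem Setting.eq_of_fix (S : Setting F σ p q n) (hn : 3 ≤ n) (h32 : n = 3 → 3 ≤ q)
    {e f : Fin n → F} (H : HPair σ e f) {α β : MulAut (Cfsg.PSU n F q)}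
    (he : ∀ x ∈ RR σ n q e S.frob, α x = β x) (hf : ∀ x ∈ RR σ n q f S.frob, α x = β x) :
    α = β := by
  set M := (α.toMonoidHom.eqLocus β.toMonoidHom).comap (π n F q) with hM
  have hMe : Ue σ n q e S.frob ≤ M := fun u hu => he _ ⟨u, hu, rfl⟩
  have hMf : Ue σ n q f S.frob ≤ M := fun u hu => hf _ ⟨u, hu, rfl⟩
  have hscale : ∀ (v : Fin n → F) (a : F) (c : F) (hv : uh σ v v = 0) (hc : c + σ c = 0), a ≠ 0 →
      (∀ (c' : F) (hv' : uh σ (a • v) (a • v) = 0) (hc' : c' + σ c' = 0),
        utv S.frob (a • v) c' hv' hc' ∈ M) → utv S.frob v c hv hc ∈ M := by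
    intro v a c hv hc ha hall
    have hσa : σ a ≠ 0 := (map_ne_zero σ).2 ha
    have hav : uh σ (a • v) (a • v) = 0 := by rw [uh_smul_left, uh_smul_right, hv]; simp
    have hc' : c / (a * σ a) + σ (c / (a * σ a)) = 0 := by
      rw [map_div₀, map_mul, S.frob.invol]
      field_simp
      linear_combination hc
    have h1 := hall _ hav hc'
    rw [utv_smul S.frob v a _ hav hv hc' (norm_skew S.frob a hc')] at h1
    have h2 := utv_congr S.frob (rfl : v = v)
      (show a * σ a * (c / (a * σ a)) = c by field_simp) hv (norm_skew S.frob a hc')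
    rwa [h2] at h1
  -- isotropic vectors not orthogonal to `e`, and symmetrically to `f`
  have hstep : ∀ {e f : Fin n → F}, HPair σ e f → Ue σ n q e S.frob ≤ M → Ue σ n q f S.frob ≤ M →
      ∀ (v : Fin n → F) (c : F) (hv : uh σ v v = 0) (hc : c + σ c = 0), uh σ v e ≠ 0 →
        utv S.frob v c hv hc ∈ M := by
    intro e f H hMe hMf v c hv hc hve
    refine hscale v (uh σ v e)⁻¹ c hv hc (inv_ne_zero hve) fun c' hv' hc' => ?_
    obtain ⟨w, hw, hdec⟩ := H.decomp ((uh σ v e)⁻¹ • v)
    rw [uh_smul_left _ _ e, inv_mul_cancel₀ hve, one_smul] at hdec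
    set b := uh σ ((uh σ v e)⁻¹ • v) f with hb
    have hpar : b + σ b + uh σ w w = 0 := by
      have h0 := hv'
      rw [hdec] at h0
      simp only [uh_add_left, uh_add_right, uh_smul_left, uh_smul_right, H.ee, H.ef, H.fe, H.ff,
        hw.1, hw.2, S.frob.swap_zero hw.1, S.frob.swap_zero hw.2] at h0
      linear_combination h0
    have hu := hMe (uel_mem_Ue S.frob e w b H.ee hw.1 hpar)
    have h1 := M.mul_mem (M.mul_mem hu (hMf (utv_mem_Ue S.frob f c' H.ff hc'))) (M.inv_mem hu)
    rw [su_conj_utv] at h1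
    have h2 : (uel S.frob e w b H.ee hw.1 hpar).1.1 *ᵥ f = (uh σ v e)⁻¹ • v := by
      rw [uel_mulVec, H.fe, S.frob.swap_zero hw.2, hdec]; module
    rwa [utv_congr S.frob h2 rfl] at h1
  have htop : M = ⊤ := by
    refine top_le_iff.1 ?_
    rw [← transvGroup_eq_top S.card S.frob n S.two h32]
    refine mem_of_eq_utv S.frob fun v c hv hc => ?_
    rcases eq_or_ne v 0 with rfl | hv0
    · rw [show utv S.frob (0 : Fin n → F) c hv hc = 1 from su_ext fun x => by simp]
      exact one_mem _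
    by_cases hve : uh σ v e ≠ 0
    · exact hstep H hMe hMf v c hv hc hve
    by_cases hvf : uh σ v f ≠ 0
    · exact hstep H.symm hMf hMe v c hv hc hvf
    push Not at hve hvf
    have hvW : inW σ e f v := ⟨hve, hvf⟩
    obtain ⟨w, hw, hww, hvw, -⟩ := hvW.exists_partner' S.frob H hv0 hv
    have hpar : (0 : F) + σ 0 + uh σ w w = 0 := by rw [hww, map_zero, add_zero, add_zero]
    set u := uel S.frob f w 0 H.ff hw.2 hpar with hu
    have huM := hMf (uel_mem_Ue S.frob f w 0 H.ff hw.2 hpar)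
    rw [← hu] at huM
    have huv : uh σ (u.1.1 *ᵥ v) e ≠ 0 := by
      rw [hu, uel_mulVec, hvf, hvw]
      simp [uh_add_left, uh_smul_left, uh_sub_left, hve, hw.1, H.fe]
      rw [← neg_one_smul F f, uh_smul_left, H.fe]
      simp
    have h1 := M.mul_mem (M.mul_mem (M.inv_mem huM)
      (hstep H hMe hMf _ c (by rw [su_uh S.frob]; exact hv) hc huv)) (M.inv_mem (M.inv_mem huM))
    rw [su_conj_utv, utv_congr S.frob (su_inv_mulVec u v) rfl] at h1
    exact h1
  refine MulEquiv.ext fun x => ?_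
  obtain ⟨s, rfl⟩ := π_surjective x
  have hs : s ∈ M := htop ▸ Subgroup.mem_top s
  exact hs

theorem Setting.semi_fix_e (S : Setting F σ p q n) {e : Fin n → F} (hee : uh σ e e = 0)
    (g : Cfsg.GU n F q) (τ : F ≃+* F) {a : F} (he : semi g τ e = a • e) (c : F)
    (hc : c + σ c = 0) :
    (δ g * fld τ : MulAut (Cfsg.PSU n F q)) (π n F q (utv S.frob e c hee hc)) =
      π n F q (utv S.frob e (a * σ a * τ c) hee (norm_skew S.frob a (skew_map S.frob τ hc))) := by
  rw [semi_utv S.frob, utv_congr S.frob he rfl, utv_smul S.frob e a (τ c)]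

/-- An automorphism fixing the transvections at `e` and the root data is semilinear. -/
theorem Setting.fixed_case (S : Setting F σ p q n) (hn : 3 ≤ n) (h32 : n = 3 → 3 ≤ q)
    {e f : Fin n → F} (H : HPair σ e f) (α : MulAut (Cfsg.PSU n F q))
    (fixE : ∀ (c : F) (hv : uh σ e e = 0) (hc : c + σ c = 0),
      α (π n F q (utv S.frob e c hv hc)) = π n F q (utv S.frob e c hv hc))
    (fixF : ∀ (c : F) (hv : uh σ f f = 0) (hc : c + σ c = 0),
      α (π n F q (utv S.frob f c hv hc)) = π n F q (utv S.frob f c hv hc))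
    (hR : ∀ x ∈ RR σ n q e S.frob, α x ∈ RR σ n q e S.frob) :
    ∃ (g : Cfsg.GU n F q) (τ : F ≃+* F), α = δ g * fld τ := by
  obtain ⟨L, d, D⟩ := S.exists_data H α fixE fixF hR
  have base : ∀ {α : MulAut (Cfsg.PSU n F q)} {L d}, RootData S.frob H α L d →
      (∀ x, inW σ e f x → d x = 0) → ∃ g : Cfsg.GU n F q, α = δ g := by
    intro α L d D hd
    obtain ⟨g, hge, hgf, hgw⟩ := D.exists_gu S hd
    refine ⟨g, ?_⟩
    obtain ⟨k, hk0, hk⟩ := exists_skew S.frob
    have hE : ∀ x ∈ RR σ n q e S.frob, α x = δ g x := by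
      rintro _ ⟨u, hu, rfl⟩
      obtain ⟨x, c, hx, hc, rfl⟩ := exists_uel S.frob H hu
      obtain ⟨hy, hc', hα⟩ := D.spec x c hx hc
      rw [hα, δ_π, conjSU_uel S.frob]
      have key : ∀ {e' x' : Fin n → F} (he' : e' = e) (hx' : x' = L x) (h1 : uh σ e' e' = 0)
          (h2 : uh σ x' e' = 0) (h3 : c + σ c + uh σ x' x' = 0),
          uel S.frob e (L x) (c + d x) H.ee hy.1 hc' = uel S.frob e' x' c h1 h2 h3 := by
        intro e' x' he' hx' h1 h2 h3
        subst he' hx'
        exact uel_congr S.frob rfl (by rw [hd x hx, add_zero]) _ _ _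
      exact congrArg _ (key hge (hgw x hx) _ _ _)
    refine S.eq_of_fix hn h32 H hE ?_
    rintro _ ⟨u, hu, rfl⟩
    set s := swapEl S.frob H k hk with hs
    have hsfix : α (π n F q s) = δ g (π n F q s) := by
      rw [D.fix_swap S, hs, swapEl, map_mul, map_mul, map_mul, map_mul, δ_π, δ_π, conjSU_utv S.frob,
        conjSU_utv S.frob, utv_congr S.frob hge rfl, utv_congr S.frob hgf rfl]
    have hmem : s⁻¹ * u * s ∈ Ue σ n q e S.frob := by
      have hse : s.1.1 *ᵥ e = -k⁻¹ • f := swapEl_e S.frob H hk hk0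
      have hk1 : (-k⁻¹ : F) ≠ 0 := neg_ne_zero.2 (inv_ne_zero hk0)
      have hsf : s⁻¹.1.1 *ᵥ f = (-k⁻¹)⁻¹ • e := by
        have h1 := congrArg (fun v => s⁻¹.1.1 *ᵥ v) hse
        simp only [su_inv_mulVec, mulVec_smul] at h1
        exact (eq_inv_smul_iff₀ hk1).2 h1.symm
      refine ⟨?_, fun z hz => ?_⟩
      · rw [su_mul_mulVec, su_mul_mulVec, hse, mulVec_smul, hu.1, mulVec_smul, hsf,
          smul_inv_smul₀ hk1]
      · have hz' : uh σ (s.1.1 *ᵥ z) f = 0 := by
          have h1 := su_uh S.frob s z e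
          rw [hse, uh_smul_right, hz] at h1
          exact (mul_eq_zero.1 h1).resolve_left ((map_ne_zero σ).2 hk1)
        obtain ⟨b, hb⟩ := hu.2 _ hz'
        exact ⟨b * (-k⁻¹)⁻¹, by rw [su_mul_mulVec, su_mul_mulVec, hb, mulVec_add, su_inv_mulVec,
          mulVec_smul, hsf, smul_smul]⟩
    have h1 := hE _ ⟨_, hmem, rfl⟩
    rw [map_mul, map_mul, map_mul, map_mul, map_mul, map_mul, map_inv, map_inv, map_inv, hsfix] at h1
    exact mul_left_cancel (mul_right_cancel h1)
  rcases D.global_cases S with hd | hd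
  · obtain ⟨g, hg⟩ := base D hd
    exact ⟨g, 1, by rw [map_one, mul_one]; exact hg⟩
  · let τ : F ≃+* F := RingEquiv.ofBijective σ ⟨σ.injective, fun x => ⟨σ x, S.frob.invol x⟩⟩
    have hτ : ∀ x, τ x = σ x := fun _ => rfl
    obtain ⟨a, ha⟩ := exists_pow_succ_eq S.card (c := (-1 : F))
      (by rw [← S.frob.pow, map_neg, map_one])
    rw [pow_succ', ← S.frob.pow] at ha
    have ha0 : a ≠ 0 := fun h0 => by simp [h0] at ha
    obtain ⟨g, hge, hgf⟩ := exists_gu_pair S.frob H τ ha0
    set ρ : MulAut (Cfsg.PSU n F q) := δ g * fld τ with hρ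
    have fix1 : ∀ (c : F) (hv : uh σ e e = 0) (hc : c + σ c = 0),
        ρ (π n F q (utv S.frob e c hv hc)) = π n F q (utv S.frob e c hv hc) := by
      intro c hv hc
      rw [hρ, S.semi_fix_e hv g τ hge c hc]
      exact congrArg _ (utv_congr S.frob rfl (by rw [ha, hτ]; linear_combination -hc) _ _)
    have fix2 : ∀ (c : F) (hv : uh σ f f = 0) (hc : c + σ c = 0),
        ρ (π n F q (utv S.frob f c hv hc)) = π n F q (utv S.frob f c hv hc) := by
      intro c hv hc
      rw [hρ, S.semi_fix_e hv g τ hgf c hc]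
      refine congrArg _ (utv_congr S.frob rfl ?_ _ _)
      rw [map_inv₀, S.frob.invol, hτ, ← mul_inv, mul_comm (σ a) a, ha]
      linear_combination -hc
    let L' : (Fin n → F) → Fin n → F := fun x => σ a • semi g τ (L x)
    have D' : RootData S.frob H (ρ * α) L' (fun _ => 0) := by
      refine ⟨fun c hv hc => by rw [MulAut.mul_apply, D.fixE, fix1],
        fun c hv hc => by rw [MulAut.mul_apply, D.fixF, fix2], fun x c hx hc => ?_⟩
      obtain ⟨hy, hc', hα⟩ := D.spec x c hx hc
      have hval : a * σ a * τ (c + d x) = c + 0 := by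
        have hm : σ (uh σ x x) = uh σ x x := S.frob.symm x x
        rw [ha, hτ, hd x hx, map_add, hm]
        linear_combination -hc
      have hy' : inW σ e f (L' x) := by
        have h1 : uh σ (semi g τ (L x)) (a • e) = 0 := by rw [← hge, uh_semi S.frob, hy.1, map_zero]
        have h2 : uh σ (semi g τ (L x)) ((σ a)⁻¹ • f) = 0 := by
          rw [← hgf, uh_semi S.frob, hy.2, map_zero]
        rw [uh_smul_right] at h1 h2
        refine inW.smul ⟨(mul_eq_zero.1 h1).resolve_left ((map_ne_zero σ).2 ha0),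
          (mul_eq_zero.1 h2).resolve_left ((map_ne_zero σ).2 (inv_ne_zero ((map_ne_zero σ).2 ha0)))⟩ _
      have hpar : τ (c + d x) + σ (τ (c + d x)) + uh σ (semi g τ (L x)) (semi g τ (L x)) = 0 := by
        rw [uh_semi S.frob, commute_frob S.frob, ← map_add, ← map_add, hc', map_zero]
      have hc'' : c + 0 + σ (c + 0) + uh σ (L' x) (L' x) = 0 := by
        rw [← hval]; exact smul_param S.frob a hpar
      refine ⟨hy', hc'', ?_⟩
      rw [MulAut.mul_apply, hα, hρ, semi_uel S.frob]
      have key : ∀ {e' : Fin n → F} (he' : e' = a • e) (h1 : uh σ e' e' = 0)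
          (h2 : uh σ (semi g τ (L x)) e' = 0),
          uel S.frob e' (semi g τ (L x)) (τ (c + d x)) h1 h2 hpar =
            uel S.frob e (L' x) (c + 0) H.ee hy'.1 hc'' := by
        intro e' he' h1 h2
        subst he'
        rw [uel_smul S.frob e _ a _ h1 H.ee h2 hy'.1 hpar (smul_param S.frob a hpar)]
        exact uel_congr S.frob rfl hval _ _ _
      exact congrArg _ (key hge _ _)
    obtain ⟨g', hg'⟩ := base D' fun _ _ => rfl
    refine ⟨⟨_, map_mem_GU τ.symm (g⁻¹ * g')⟩, τ⁻¹, ?_⟩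
    calc α = ρ⁻¹ * (ρ * α) := by group
      _ = (fld τ)⁻¹ * δ (g⁻¹ * g') := by rw [hg', hρ, map_mul δ, map_inv δ]; group
      _ = fld τ⁻¹ * δ (g⁻¹ * g') := by rw [map_inv fld]
      _ = _ := fld_δ τ⁻¹ _

end CfsgLib.KnownB.PSUAut
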