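import Cfsg.Agent.Lib.KnownB.PSUAut.Basic

/-!
`PSU_n(q)`: the root groups at an isotropic point and their images under automorphisms.
-/

set_option autoImplicit false

namespace CfsgLib.KnownB.PSUAut

open Matrix CfsgLib.Classical CfsgLib.Classical.Unitary

variable {n : ℕ} {F : Type*} [Field F] {q p : ℕ} {σ : F →+* F}

/-- A hyperbolic pair of isotropic vectors. -/
structure HPair (σ : F →+* F) (e f : Fin n → F) : Prop where
  ee : uh σ e e = 0
  ff : uh σ f f = 0
  ef : uh σ e f = 1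
  fe : uh σ f e = 1

theorem HPair.symm {e f : Fin n → F} (H : HPair σ e f) : HPair σ f e := ⟨H.ff, H.ee, H.fe, H.ef⟩

theorem HPair.ne_zero {e f : Fin n → F} (H : HPair σ e f) : e ≠ 0 := fun h => by
  have := H.ef
  rw [h, uh_zero_left] at this
  exact zero_ne_one this

/-- The orthogonal complement of a pair. -/
def inW (σ : F →+* F) (e f x : Fin n → F) : Prop := uh σ x e = 0 ∧ uh σ x f = 0

theorem inW.add {e f x y : Fin n → F} (hx : inW σ e f x) (hy : inW σ e f y) :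
    inW σ e f (x + y) :=
  ⟨by rw [uh_add_left, hx.1, hy.1, add_zero], by rw [uh_add_left, hx.2, hy.2, add_zero]⟩

theorem inW.sub {e f x y : Fin n → F} (hx : inW σ e f x) (hy : inW σ e f y) :
    inW σ e f (x - y) :=
  ⟨by rw [uh_sub_left, hx.1, hy.1, sub_zero], by rw [uh_sub_left, hx.2, hy.2, sub_zero]⟩

theorem inW.smul {e f x : Fin n → F} (hx : inW σ e f x) (a : F) : inW σ e f (a • x) :=
  ⟨by rw [uh_smul_left, hx.1, mul_zero], by rw [uh_smul_left, hx.2, mul_zero]⟩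

theorem inW.zero {e f : Fin n → F} : inW σ e f 0 := ⟨uh_zero_left _, uh_zero_left _⟩

theorem inW.swap {e f x : Fin n → F} (hx : inW σ e f x) : inW σ f e x := ⟨hx.2, hx.1⟩

theorem HPair.decomp {e f : Fin n → F} (H : HPair σ e f) (z : Fin n → F) :
    ∃ w, inW σ e f w ∧ z = uh σ z f • e + uh σ z e • f + w :=
  ⟨z - uh σ z f • e - uh σ z e • f,
    ⟨by simp only [uh_sub_left, uh_smul_left, H.ee, H.fe]; ring,
      by simp only [uh_sub_left, uh_smul_left, H.ef, H.ff]; ring⟩, by abel⟩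

theorem HPair.w_ext (h : UFrob σ q) {e f : Fin n → F} (H : HPair σ e f) {a b : Fin n → F}
    (ha : inW σ e f a) (hb : inW σ e f b) (he : ∀ x, inW σ e f x → uh σ x a = uh σ x b) : a = b := by
  refine uh_ext h fun z => ?_
  obtain ⟨w, hw, hz⟩ := H.decomp z
  rw [hz]
  simp only [uh_add_left, uh_smul_left, he w hw, h.swap_zero ha.1, h.swap_zero ha.2,
    h.swap_zero hb.1, h.swap_zero hb.2]

theorem exists_hpair (h : UFrob σ q) {e : Fin n → F} (he : e ≠ 0) (hee : uh σ e e = 0) :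
    ∃ f, HPair σ e f := by
  obtain ⟨f, hff, hef, hfe, -⟩ := exists_partner h ⊥ (d := e) (by simpa using he) hee
    (fun x hx => by rw [(Submodule.mem_bot F).1 hx, uh_zero_left])
  exact ⟨f, hee, hff, hef, hfe⟩

/-- The element `f ↦ f + x + c e` fixing `e`. -/
def uel (h : UFrob σ q) (e x : Fin n → F) (c : F) (hee : uh σ e e = 0) (hxe : uh σ x e = 0)
    (hc : c + σ c + uh σ x x = 0) : Cfsg.SU n F q :=
  usg h e x 1 c hee hxe (by rw [map_one, mul_one, one_mul]; exact hc)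

theorem uel_mulVec (h : UFrob σ q) (e x : Fin n → F) (c : F) (hee : uh σ e e = 0)
    (hxe : uh σ x e = 0) (hc : c + σ c + uh σ x x = 0) (z : Fin n → F) :
    (uel h e x c hee hxe hc).1.1 *ᵥ z =
      z + uh σ z e • x + (c * uh σ z e - uh σ z x) • e := by
  rw [uel, usg_mulVec, map_one, one_mul, one_mul]

theorem utv_smul (h : UFrob σ q) (v : Fin n → F) (a c : F) (hv : uh σ (a • v) (a • v) = 0)
    (hv' : uh σ v v = 0) (hc : c + σ c = 0) (hc' : a * σ a * c + σ (a * σ a * c) = 0) :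
    utv h (a • v) c hv hc = utv h v (a * σ a * c) hv' hc' := by
  refine su_ext fun x => ?_
  rw [utv_mulVec, utv_mulVec, uh_smul_right, smul_smul]
  congr 2
  ring

theorem norm_skew (h : UFrob σ q) (a : F) {c : F} (hc : c + σ c = 0) :
    a * σ a * c + σ (a * σ a * c) = 0 := by
  simp only [map_mul, h.invol]
  linear_combination (a * σ a) * hc

theorem utv_congr (h : UFrob σ q) {v w : Fin n → F} {c d : F} (hvw : v = w) (hcd : c = d)
    (hv : uh σ v v = 0) (hc : c + σ c = 0) :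
    utv h v c hv hc = utv h w d (hvw ▸ hv) (hcd ▸ hc) := by
  subst hvw hcd; rfl

theorem utv_eq_point (h : UFrob σ q) {v w : Fin n → F} {c d : F} (hv : uh σ v v = 0)
    (hw : uh σ w w = 0) (hc : c + σ c = 0) (hd : d + σ d = 0) (hv0 : v ≠ 0) (hc0 : c ≠ 0)
    (he : utv h v c hv hc = utv h w d hw hd) : ∃ a : F, v = a • w := by
  obtain ⟨z, hz⟩ := exists_uh_eq_one h hv0
  have h1 := congrArg (fun g : Cfsg.SU n F q => g.1.1 *ᵥ z) he
  simp only [utv_mulVec, hz, mul_one, add_right_inj] at h1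
  exact ⟨c⁻¹ * (d * uh σ z w), by rw [mul_smul, ← h1, inv_smul_smul₀ hc0]⟩

theorem utv_eq_scalar (h : UFrob σ q) {v : Fin n → F} {c d : F} (hv : uh σ v v = 0)
    (hc : c + σ c = 0) (hd : d + σ d = 0) (hv0 : v ≠ 0)
    (he : utv h v c hv hc = utv h v d hv hd) : c = d := by
  obtain ⟨z, hz⟩ := exists_uh_eq_one h hv0
  have h1 := congrArg (fun g : Cfsg.SU n F q => g.1.1 *ᵥ z) he
  simp only [utv_mulVec, hz, mul_one, add_right_inj] at h1
  have h2 : (c - d) • v = 0 := by rw [sub_smul, h1, sub_self]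
  exact sub_eq_zero.1 ((smul_eq_zero.1 h2).resolve_right hv0)

theorem su_conj_utv (h : UFrob σ q) (g : Cfsg.SU n F q) (v : Fin n → F) (c : F)
    (hv : uh σ v v = 0) (hc : c + σ c = 0) :
    g * utv h v c hv hc * g⁻¹ = utv h (g.1.1 *ᵥ v) c (by rw [su_uh h, hv]) hc := by
  refine su_ext fun x => ?_
  obtain ⟨y, rfl⟩ : ∃ y, g.1.1 *ᵥ y = x := ⟨_, su_mulVec_inv g x⟩
  rw [su_mul_mulVec, su_mul_mulVec, su_inv_mulVec, utv_mulVec, utv_mulVec, mulVec_add,
    mulVec_smul, su_uh h]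

/-- Elements fixing `e` and acting trivially on `e^⊥ / ⟨e⟩`. -/
def Ue (σ : F →+* F) (n q : ℕ) (e : Fin n → F) (h : UFrob σ q) : Subgroup (Cfsg.SU n F q) where
  carrier := {g | g.1.1 *ᵥ e = e ∧ ∀ z, uh σ z e = 0 → ∃ a : F, g.1.1 *ᵥ z = z + a • e}
  one_mem' := ⟨su_one_mulVec e, fun z _ => ⟨0, by rw [zero_smul, add_zero]; exact su_one_mulVec z⟩⟩
  mul_mem' {g k} hg hk := ⟨by rw [su_mul_mulVec, hk.1, hg.1], fun z hz => by
    obtain ⟨a, ha⟩ := hk.2 z hz
    obtain ⟨b, hb⟩ := hg.2 z hz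
    exact ⟨b + a, by rw [su_mul_mulVec, ha, mulVec_add, mulVec_smul, hg.1, hb, add_smul, add_assoc]⟩⟩
  inv_mem' {g} hg := by
    have he : g⁻¹.1.1 *ᵥ e = e := by
      conv_lhs => rw [← hg.1]
      rw [su_inv_mulVec]
    refine ⟨he, fun z hz => ?_⟩
    obtain ⟨a, ha⟩ := hg.2 z hz
    refine ⟨-a, ?_⟩
    have h1 := congrArg (fun w => g⁻¹.1.1 *ᵥ w) ha
    simp only [su_inv_mulVec, mulVec_add, mulVec_smul, he] at h1
    rw [neg_smul, ← sub_eq_add_neg, eq_sub_iff_add_eq]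
    exact h1.symm

theorem uel_mem_Ue (h : UFrob σ q) (e x : Fin n → F) (c : F) (hee : uh σ e e = 0)
    (hxe : uh σ x e = 0) (hc : c + σ c + uh σ x x = 0) :
    uel h e x c hee hxe hc ∈ Ue σ n q e h := by
  refine ⟨?_, fun z hz => ⟨-uh σ z x, ?_⟩⟩
  · rw [uel_mulVec, hee, h.swap_zero hxe]; simp
  · rw [uel_mulVec, hz]; simp

theorem utv_mem_Ue (h : UFrob σ q) (e : Fin n → F) (c : F) (hee : uh σ e e = 0)
    (hc : c + σ c = 0) : utv h e c hee hc ∈ Ue σ n q e h :=
  ⟨by rw [utv_mulVec, hee]; simp, fun z hz => ⟨0, by rw [utv_mulVec, hz]; simp⟩⟩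

/-- Every element of `Ue` is some `uel`. -/
theorem exists_uel (h : UFrob σ q) {e f : Fin n → F} (H : HPair σ e f) {g : Cfsg.SU n F q}
    (hg : g ∈ Ue σ n q e h) :
    ∃ (x : Fin n → F) (c : F) (hx : inW σ e f x) (hc : c + σ c + uh σ x x = 0),
      g = uel h e x c H.ee hx.1 hc := by
  obtain ⟨x, hx, hgf⟩ := H.decomp (g.1.1 *ᵥ f)
  set c := uh σ (g.1.1 *ᵥ f) f with hcdef
  have h1 : uh σ (g.1.1 *ᵥ f) e = 1 := by
    have h2 := su_uh h g f e
    rw [hg.1, H.fe] at h2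
    exact h2
  rw [h1, one_smul] at hgf
  have hc : c + σ c + uh σ x x = 0 := by
    have h2 := su_uh h g f f
    rw [hgf, H.ff] at h2
    simp only [uh_add_left, uh_add_right, uh_smul_left, uh_smul_right, H.ee, H.ff, H.ef, H.fe,
      hx.1, hx.2, h.swap_zero hx.1, h.swap_zero hx.2] at h2
    linear_combination h2
  refine ⟨x, c, hx, hc, su_ext fun z => ?_⟩
  obtain ⟨w, hw, hz⟩ := H.decomp z
  obtain ⟨a, ha⟩ := hg.2 w hw.1
  have h3 := su_uh h g w f
  rw [ha, hgf, hw.2] at h3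
  simp only [uh_add_left, uh_add_right, uh_smul_left, uh_smul_right, H.ee, H.ef, hw.1, hw.2,
    h.swap_zero hx.1, h.swap_zero hx.2] at h3
  have ha' : a = -uh σ w x := by linear_combination h3
  rw [uel_mulVec, hz]
  simp only [mulVec_add, mulVec_smul, hg.1, hgf, ha, ha', uh_add_left, uh_smul_left, H.ee, H.fe,
    hw.1, h.swap_zero hx.1, h.swap_zero hx.2]
  module

theorem uel_congr (h : UFrob σ q) {e x y : Fin n → F} {c d : F} (hxy : x = y) (hcd : c = d)
    (hee : uh σ e e = 0) (hxe : uh σ x e = 0) (hc : c + σ c + uh σ x x = 0) :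
    uel h e x c hee hxe hc = uel h e y d hee (hxy ▸ hxe) (by rw [← hxy, ← hcd]; exact hc) := by
  subst hxy hcd; rfl

theorem uel_inj (h : UFrob σ q) {e f : Fin n → F} (H : HPair σ e f) {x y : Fin n → F} {c d : F}
    (hx : inW σ e f x) (hy : inW σ e f y) (hc : c + σ c + uh σ x x = 0)
    (hd : d + σ d + uh σ y y = 0)
    (he : uel h e x c H.ee hx.1 hc = uel h e y d H.ee hy.1 hd) : x = y ∧ c = d := by
  have h1 := congrArg (fun g : Cfsg.SU n F q => g.1.1 *ᵥ f) he
  simp only [uel_mulVec, H.fe, h.swap_zero hx.2, h.swap_zero hy.2, one_smul, mul_one, sub_zero,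
    add_assoc, add_right_inj] at h1
  have hc' : c = d := by
    have h2 := congrArg (fun w => uh σ w f) h1
    simpa [uh_add_left, uh_smul_left, hx.2, hy.2, H.ef] using h2
  exact ⟨by rwa [hc', add_left_inj] at h1, hc'⟩

theorem uel_mul (h : UFrob σ q) {e : Fin n → F} (hee : uh σ e e = 0) {x y : Fin n → F} {c d : F}
    (hxe : uh σ x e = 0) (hye : uh σ y e = 0) (hc : c + σ c + uh σ x x = 0)
    (hd : d + σ d + uh σ y y = 0) :
    uel h e x c hee hxe hc * uel h e y d hee hye hd =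
      uel h e (x + y) (c + d - uh σ y x) hee (by rw [uh_add_left, hxe, hye, add_zero]) (by
        simp only [map_sub, map_add, uh_add_left, uh_add_right, h.symm]
        linear_combination hc + hd) := by
  refine su_ext fun z => ?_
  simp only [su_mul_mulVec, uel_mulVec, uh_add_left, uh_add_right, uh_smul_left, hee, hye,
    h.swap_zero hxe]
  module

/-- The image of `Ue` in `PSU`. -/
def RR (σ : F →+* F) (n q : ℕ) (e : Fin n → F) (h : UFrob σ q) : Subgroup (Cfsg.PSU n F q) :=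
  (Ue σ n q e h).map (π n F q)

/-- The image of the transvections at `e`. -/
def TT (σ : F →+* F) (n q : ℕ) (e : Fin n → F) (h : UFrob σ q) : Set (Cfsg.PSU n F q) :=
  {x | ∃ (c : F) (hv : uh σ e e = 0) (hc : c + σ c = 0), x = π n F q (utv h e c hv hc)}

/-- The centraliser of the transvection group at `e`. -/
def Cc (σ : F →+* F) (n q : ℕ) (e : Fin n → F) (h : UFrob σ q) : Subgroup (Cfsg.PSU n F q) :=
  Subgroup.centralizer (TT σ n q e h)

variable [Finite F]

/-- Elements of `Ue` are `p`-elements. -/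
theorem Setting.pEl_Ue (S : Setting F σ p q n) {e : Fin n → F}
    {g : Cfsg.SU n F q} (hg : g ∈ Ue σ n q e S.frob) : PEl p g := by
  have := S.char
  haveI := Fact.mk S.prime
  haveI : Nonempty (Fin n) := ⟨⟨0, by have := S.two; omega⟩⟩
  let N : Matrix (Fin n) (Fin n) F := g.1.1 - 1
  have h1 : ∀ z, uh σ (N *ᵥ z) e = 0 := fun z => by
    have h2 := su_uh S.frob g z e
    rw [hg.1] at h2
    rw [sub_mulVec, one_mulVec, uh_sub_left, h2, sub_self]
  have h3 : ∀ z, N *ᵥ (N *ᵥ (N *ᵥ z)) = 0 := fun z => by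
    obtain ⟨a, ha⟩ := hg.2 _ (h1 z)
    have hN : N *ᵥ (N *ᵥ z) = a • e := by
      rw [show N *ᵥ (N *ᵥ z) = g.1.1 *ᵥ (N *ᵥ z) - N *ᵥ z by rw [sub_mulVec, one_mulVec], ha,
        add_sub_cancel_left]
    rw [hN, sub_mulVec, one_mulVec, mulVec_smul, hg.1, sub_self]
  have hN3 : N ^ 3 = 0 := Matrix.ext_iff_mulVec.2 fun z => by
    rw [pow_succ, pow_two, ← mulVec_mulVec, ← mulVec_mulVec, h3, zero_mulVec]
  refine ⟨2, Subtype.ext (Subtype.ext ?_)⟩
  have hle : 3 ≤ p ^ 2 := le_trans (by norm_num) (Nat.pow_le_pow_left S.prime.two_le 2)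
  show g.1.1 ^ p ^ 2 = 1
  rw [show g.1.1 = 1 + N by simp [N], add_pow_char_pow_of_commute (p := p) (n := 2) (Commute.one_left N),
    pow_eq_zero_of_le hle hN3, one_pow, add_zero]

theorem Setting.pEl_utv (S : Setting F σ p q n) (e : Fin n → F) (c : F) (hee : uh σ e e = 0)
    (hc : c + σ c = 0) : PEl p (utv S.frob e c hee hc) :=
  S.pEl_Ue (utv_mem_Ue S.frob e c hee hc)

theorem Setting.isPGroup_RR (S : Setting F σ p q n) (e : Fin n → F) :
    IsPGroup p (RR σ n q e S.frob) := by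
  rintro ⟨_, g, hg, rfl⟩
  obtain ⟨k, hk⟩ := S.pEl_Ue hg
  exact ⟨k, Subtype.ext (by simp [← map_pow, hk])⟩

/-- Membership in the centraliser of a transvection. -/
theorem Setting.centralizer_single (S : Setting F σ p q n) {e : Fin n → F} (he : e ≠ 0) {c : F}
    (hee : uh σ e e = 0) (hc : c + σ c = 0) (hc0 : c ≠ 0) (g : Cfsg.SU n F q) :
    π n F q g * π n F q (utv S.frob e c hee hc) = π n F q (utv S.frob e c hee hc) * π n F q g ↔
      ∃ a : F, a * σ a = 1 ∧ g.1.1 *ᵥ e = a • e := by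
  constructor
  · intro hcomm
    have h1 := S.conj_eq (S.pEl_utv e c hee hc) (S.pEl_utv e c hee hc) (g := g) (by
      rw [map_mul, map_mul, map_inv, hcomm, mul_inv_cancel_right])
    rw [su_conj_utv] at h1
    obtain ⟨a, ha⟩ := utv_eq_point S.frob _ hee hc hc
      (fun h0 => he (by rw [← su_inv_mulVec g e, h0, mulVec_zero])) hc0 h1
    have hcc := norm_skew S.frob a hc
    rw [utv_congr S.frob ha rfl, utv_smul S.frob e a c _ hee hc hcc] at h1
    have h2 := utv_eq_scalar S.frob hee hcc hc he h1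
    exact ⟨a, mul_right_cancel₀ hc0 (by rw [h2, one_mul]), ha⟩
  · rintro ⟨a, ha, hga⟩
    have h1 : g * utv S.frob e c hee hc * g⁻¹ = utv S.frob e c hee hc := by
      rw [su_conj_utv, utv_congr S.frob hga rfl,
        utv_smul S.frob e a c _ hee hc (norm_skew S.frob a hc)]
      exact utv_congr S.frob rfl (by rw [ha, one_mul]) _ _
    rw [← map_mul, ← map_mul]
    exact congrArg _ (mul_inv_eq_iff_eq_mul.1 h1)

theorem Setting.mem_Cc_iff (S : Setting F σ p q n) {e : Fin n → F} (he : e ≠ 0)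
    (hee : uh σ e e = 0) (g : Cfsg.SU n F q) :
    π n F q g ∈ Cc σ n q e S.frob ↔ ∃ a : F, a * σ a = 1 ∧ g.1.1 *ᵥ e = a • e := by
  obtain ⟨k, hk0, hk⟩ := exists_skew S.frob
  constructor
  · intro hg
    exact (S.centralizer_single he hee hk hk0 g).1
      (Subgroup.mem_centralizer_iff.1 hg _ ⟨k, hee, hk, rfl⟩).symm
  · intro hg
    refine Subgroup.mem_centralizer_iff.2 ?_
    rintro _ ⟨c, hv, hc, rfl⟩
    rcases eq_or_ne c 0 with rfl | hc0
    · have : utv S.frob e 0 hv hc = 1 := su_ext fun x => by simp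
      rw [this, map_one, one_mul, mul_one]
    · exact ((S.centralizer_single he hv hc hc0 g).2 hg).symm

theorem Setting.centralizer_eq_Cc (S : Setting F σ p q n) {e : Fin n → F} (he : e ≠ 0) {c : F}
    (hee : uh σ e e = 0) (hc : c + σ c = 0) (hc0 : c ≠ 0) :
    Subgroup.centralizer {π n F q (utv S.frob e c hee hc)} = Cc σ n q e S.frob := by
  ext x
  obtain ⟨g, rfl⟩ := π_surjective x
  rw [S.mem_Cc_iff he hee, ← S.centralizer_single he hee hc hc0, Subgroup.mem_centralizer_singleton_iff]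

theorem Setting.RR_le_Cc (S : Setting F σ p q n) {e : Fin n → F} (he : e ≠ 0)
    (hee : uh σ e e = 0) : RR σ n q e S.frob ≤ Cc σ n q e S.frob := by
  rintro _ ⟨g, hg, rfl⟩
  exact (S.mem_Cc_iff he hee g).2 ⟨1, by simp, by rw [one_smul]; exact hg.1⟩

theorem Setting.RR_normal (S : Setting F σ p q n) {e : Fin n → F} (he : e ≠ 0)
    (hee : uh σ e e = 0) {x r : Cfsg.PSU n F q} (hx : x ∈ Cc σ n q e S.frob)
    (hr : r ∈ RR σ n q e S.frob) : x * r * x⁻¹ ∈ RR σ n q e S.frob := by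
  obtain ⟨k, rfl⟩ := π_surjective x
  obtain ⟨a, ha, hka⟩ := (S.mem_Cc_iff he hee k).1 hx
  obtain ⟨g, hg, rfl⟩ := hr
  refine ⟨k * g * k⁻¹, ?_, by simp⟩
  have ha0 : a ≠ 0 := fun h0 => by simp [h0] at ha
  have hki : k⁻¹.1.1 *ᵥ e = a⁻¹ • e := by
    have h1 := congrArg (fun w => k⁻¹.1.1 *ᵥ w) hka
    simp only [su_inv_mulVec, mulVec_smul] at h1
    exact (eq_inv_smul_iff₀ ha0).2 h1.symm
  refine ⟨?_, fun z hz => ?_⟩
  · rw [su_mul_mulVec, su_mul_mulVec, hki, mulVec_smul, hg.1, mulVec_smul, hka,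
      inv_smul_smul₀ ha0]
  · have hz' : uh σ (k⁻¹.1.1 *ᵥ z) e = 0 := by
      have h1 := su_uh S.frob k (k⁻¹.1.1 *ᵥ z) e
      rw [su_mulVec_inv, hka, uh_smul_right, hz, mul_zero] at h1
      exact h1.symm
    obtain ⟨b, hb⟩ := hg.2 _ hz'
    exact ⟨b * a, by rw [su_mul_mulVec, su_mul_mulVec, hb, mulVec_add, su_mulVec_inv, mulVec_smul,
      hka, smul_smul]⟩

theorem inW.not_mem_span (h : UFrob σ q) {e f x : Fin n → F} (H : HPair σ e f)
    (hx : inW σ e f x) (hx0 : x ≠ 0) : x ∉ Submodule.span F {e, f} := by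
  intro hm
  obtain ⟨a, b, hab⟩ := Submodule.mem_span_pair.1 hm
  have h1 := hx.1
  have h2 := hx.2
  rw [← hab] at h1 h2
  simp only [uh_add_left, uh_smul_left, H.ee, H.fe, H.ef, H.ff, mul_zero, mul_one, zero_add,
    add_zero] at h1 h2
  exact hx0 (by rw [← hab, h1, h2, zero_smul, zero_smul, add_zero])

theorem inW.exists_partner' (h : UFrob σ q) {e f x : Fin n → F} (H : HPair σ e f)
    (hx : inW σ e f x) (hx0 : x ≠ 0) (hxx : uh σ x x = 0) :
    ∃ v, inW σ e f v ∧ uh σ v v = 0 ∧ uh σ x v = 1 ∧ uh σ v x = 1 := by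
  obtain ⟨v, hvv, hxv, hvx, hvH⟩ := exists_partner h _ (hx.not_mem_span h H hx0) hxx fun z hz => by
    obtain ⟨a, b, rfl⟩ := Submodule.mem_span_pair.1 hz
    rw [uh_add_left, uh_smul_left, uh_smul_left, h.swap_zero hx.1, h.swap_zero hx.2]; ring
  exact ⟨v, ⟨(hvH e (Submodule.subset_span (by simp))).2, (hvH f (Submodule.subset_span (by simp))).2⟩,
    hvv, hxv, hvx⟩

/-- An isotropic vector of the complement not orthogonal to `x`. -/
theorem exists_iso_nonorth (hF : Nat.card F = q ^ 2) (h : UFrob σ q) {e f x y : Fin n → F}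
    (H : HPair σ e f) (hx : inW σ e f x) (hx0 : x ≠ 0) (hy : inW σ e f y)
    (hxy : ∀ a : F, y ≠ a • x) : ∃ v, inW σ e f v ∧ uh σ v v = 0 ∧ uh σ x v ≠ 0 := by
  rcases eq_or_ne (uh σ x x) 0 with hxx | hxx
  · obtain ⟨v, hv, hvv, hxv, -⟩ := hx.exists_partner' h H hx0 hxx
    exact ⟨v, hv, hvv, by rw [hxv]; exact one_ne_zero⟩
  · set m := uh σ x x with hm
    set y' := y - (uh σ y x / m) • x with hy'
    have hy'W : inW σ e f y' := hy.sub (hx.smul _)
    have hy'0 : y' ≠ 0 := sub_ne_zero.2 (hxy _)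
    have hy'x : uh σ y' x = 0 := by
      rw [hy', uh_sub_left, uh_smul_left, ← hm, div_mul_cancel₀ _ hxx, sub_self]
    have hxy' : uh σ x y' = 0 := h.swap_zero hy'x
    have hmσ : σ m = m := h.symm x x
    rcases eq_or_ne (uh σ y' y') 0 with hyy | hyy
    · obtain ⟨z, hz, hzz, hy'z, hzy'⟩ := hy'W.exists_partner' h H hy'0 hyy
      rcases eq_or_ne (uh σ x z) 0 with hxz | hxz
      · obtain ⟨θ, hθ⟩ := exists_trace h
        refine ⟨x + z - (θ * m) • y', (hx.add hz).sub (hy'W.smul _), ?_, ?_⟩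
        · simp only [uh_add_left, uh_add_right, uh_sub_left, uh_sub_right, uh_smul_left,
            uh_smul_right, hxz, h.swap_zero hxz, hzz, hxy', hy'x, hyy, hy'z, hzy', map_mul, hmσ,
            ← hm]
          linear_combination (-m) * hθ
        · simp only [uh_add_right, uh_sub_right, uh_smul_right, hxz, hxy', ← hm]
          simpa using hxx
      · exact ⟨z, hz, hzz, hxz⟩
    · obtain ⟨a, ha⟩ := exists_pow_succ_eq hF (c := -m / uh σ y' y') (by
        rw [← h.pow, map_div₀, map_neg, hmσ, h.symm])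
      rw [pow_succ', ← h.pow] at ha
      refine ⟨x + a • y', hx.add (hy'W.smul a), ?_, ?_⟩
      · simp only [uh_add_left, uh_add_right, uh_smul_left, uh_smul_right, hy'x, hxy', ← hm]
        field_simp at ha
        linear_combination ha
      · simp only [uh_add_right, uh_smul_right, hxy', ← hm]
        simpa using hxx

end CfsgLib.KnownB.PSUAut
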